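import Cfsg.Agent.OddAutTwo.Tools

/-!
# Invariant abelian subgroups moved by the automorphisms

Such a subgroup is homocyclic of rank two; if it is self-centralizing then all squares are central.
-/

set_option autoImplicit false

namespace Cfsg.Agent.OddAutTwo

open Subgroup

variable {X : Type*} [Group X]

/-- An invariant homocyclic subgroup of rank two, rotated by `σ`. -/
structure Homo (D : Data X) where
  Y : Subgroup X
  U : Subgroup X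
  σ : MulAut X
  S : ℕ
  comm : ∀ a ∈ Y, ∀ c ∈ Y, a * c = c * a
  normal : Y.Normal
  inv : D.Inv Y
  memU : ∀ v, v ∈ U ↔ v ∈ Y ∧ v * v = 1
  rot : D.Rot σ U
  U_center : U ≤ center X
  S_pos : 1 ≤ S
  exp : ∀ y ∈ Y, y ^ 2 ^ S = 1
  root : ∀ v ∈ U, ∃ y ∈ Y, y ^ 2 ^ (S - 1) = v

theorem fix_of_fix_involutions [Finite X] (D : Data X) (Y : Subgroup X)
    (hc : ∀ a ∈ Y, ∀ c ∈ Y, a * c = c * a) (hInv : D.Inv Y) {φ : MulAut X} (hφ : φ ∈ D.A)
    (h : ∀ v ∈ Y, v * v = 1 → φ v = v) : ∀ y ∈ Y, φ y = y := by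
  have key : ∀ k, ∀ y ∈ Y, y ^ 2 ^ k = 1 → φ y = y := by
    intro k
    induction k with
    | zero => intro y _ h1; rw [pow_zero, pow_one] at h1; rw [h1, map_one]
    | succ k ih =>
      intro y hy hk
      have h2 : φ (y * y) = y * y := ih _ (Y.mul_mem hy hy) (by
        rw [← pow_two, ← pow_mul, ← pow_succ']; exact hk)
      obtain ⟨z, hz⟩ : ∃ z, z = y⁻¹ * φ y := ⟨_, rfl⟩
      have hzY : z ∈ Y := hz ▸ Y.mul_mem (Y.inv_mem hy) (hInv φ hφ y hy)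
      have hzz : z * z = 1 := by
        have e : φ y * φ y = y * y := by rw [← map_mul]; exact h2
        rw [hz]
        calc y⁻¹ * φ y * (y⁻¹ * φ y) = y⁻¹ * (φ y * y⁻¹) * φ y := by group
          _ = y⁻¹ * (y⁻¹ * φ y) * φ y := by rw [hc _ (hInv φ hφ y hy) _ (Y.inv_mem hy)]
          _ = y⁻¹ * y⁻¹ * (φ y * φ y) := by group
          _ = 1 := by rw [e]; group
      have hfz : φ z = z := h z hzY hzz
      have e1 : φ y = y * z := by rw [hz, mul_inv_cancel_left]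
      refine D.eq_of_fix_sq hφ ?_
      rw [e1, map_mul, e1, hfz, mul_assoc, hzz, mul_one]
  intro y hy
  obtain ⟨k, hk⟩ := D.isTwo y
  exact key k y hy hk

theorem exists_homo [Finite X] (D : Data X) (Y : Subgroup X) [hn : Y.Normal]
    (hc : ∀ a ∈ Y, ∀ c ∈ Y, a * c = c * a) (hInv : D.Inv Y) (hmove : ∃ φ ∈ D.A, ∃ y ∈ Y, φ y ≠ y) :
    ∃ H : Homo D, H.Y = Y := by
  classical
  let U : Subgroup X :=
    { carrier := {v | v ∈ Y ∧ v * v = 1}
      mul_mem' := fun {a c} ha hb => ⟨Y.mul_mem ha.1 hb.1, by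
        calc a * c * (a * c) = a * (c * a) * c := by group
          _ = (a * a) * (c * c) := by rw [hc c hb.1 a ha.1]; group
          _ = 1 := by rw [ha.2, hb.2, mul_one]⟩
      one_mem' := ⟨Y.one_mem, mul_one 1⟩
      inv_mem' := fun {a} ha => ⟨Y.inv_mem ha.1, by
        rw [inv_eq_of_mul_eq_one_right ha.2]; exact ha.2⟩ }
  have memU : ∀ v, v ∈ U ↔ v ∈ Y ∧ v * v = 1 := fun v => Iff.rfl
  have hUn : U.Normal := ⟨fun v hv x => ⟨hn.conj_mem v hv.1 x, by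
    calc x * v * x⁻¹ * (x * v * x⁻¹) = x * (v * v) * x⁻¹ := by group
      _ = 1 := by rw [hv.2]; group⟩⟩
  have hUi : D.Inv U := fun φ hφ v hv => ⟨hInv φ hφ v hv.1, by rw [← map_mul, hv.2, map_one]⟩
  have hmoveU : ∃ φ ∈ D.A, ∃ v ∈ U, φ v ≠ v := by
    by_contra hno
    push Not at hno
    obtain ⟨φ, hφ, y, hy, hne⟩ := hmove
    exact hne (fix_of_fix_involutions D Y hc hInv hφ (fun v hv hvv => hno φ hφ v ⟨hv, hvv⟩) y hy)
  have hexp : ∀ v ∈ U, v * v = 1 := fun v hv => ((memU v).mp hv).2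
  obtain ⟨σ, hrot⟩ := D.exists_rot U hexp (D.small U hUn hexp) hUi hmoveU
  have hex : ∃ S, ∀ y ∈ Y, y ^ 2 ^ S = 1 := by
    obtain ⟨k, hk⟩ := IsPGroup.iff_card.mp D.isTwo
    exact ⟨k, fun y _ => by rw [← hk]; exact pow_card_eq_one'⟩
  obtain ⟨v₀, hv₀, -, -, hv₀1, -, -⟩ := exists_ne_of_card_four hrot.2.1
  have hS : 1 ≤ Nat.find hex := by
    by_contra h
    have h0 : Nat.find hex = 0 := by omega
    have := Nat.find_spec hex v₀ hv₀.1
    rw [h0, pow_zero, pow_one] at this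
    exact hv₀1 this
  have hlt := Nat.find_min hex (show Nat.find hex - 1 < Nat.find hex by omega)
  push Not at hlt
  obtain ⟨y₀, hy₀, hne⟩ := hlt
  obtain ⟨w, hw⟩ : ∃ w, w = y₀ ^ 2 ^ (Nat.find hex - 1) := ⟨_, rfl⟩
  have hwU : w ∈ U := ⟨hw ▸ Y.pow_mem hy₀ _, by
    rw [hw, ← pow_add, ← two_mul, ← pow_succ', show Nat.find hex - 1 + 1 = Nat.find hex by omega]
    exact Nat.find_spec hex y₀ hy₀⟩
  obtain ⟨-, hall⟩ := eq_of_four hexp hrot.2.1.le hwU (hUi σ hrot.1 w hwU) (hw ▸ hne)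
    (fun h => hne (by rw [← hw]; exact σ.injective (h.trans (map_one σ).symm)))
    (Ne.symm (hrot.2.2.1 w hwU (hw ▸ hne)))
  refine ⟨⟨Y, U, σ, Nat.find hex, hc, hn, hInv, memU, hrot,
    D.exp_two_central U hexp hUi, hS, Nat.find_spec hex, fun v hv => ?_⟩, rfl⟩
  have hσw : (σ y₀) ^ 2 ^ (Nat.find hex - 1) = σ w := by rw [hw, map_pow]
  rcases hall v hv with rfl | rfl | rfl | rfl
  · exact ⟨1, Y.one_mem, one_pow _⟩
  · exact ⟨y₀, hy₀, hw.symm⟩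
  · exact ⟨σ y₀, hInv σ hrot.1 y₀ hy₀, hσw⟩
  · exact ⟨y₀ * σ y₀, Y.mul_mem hy₀ (hInv σ hrot.1 y₀ hy₀), by
      rw [(show Commute y₀ (σ y₀) from hc _ hy₀ _ (hInv σ hrot.1 y₀ hy₀)).mul_pow, hσw, ← hw]⟩

namespace Homo

variable {D : Data X} (H : Homo D)

theorem uY {v : X} (hv : v ∈ H.U) : v ∈ H.Y := ((H.memU v).mp hv).1
theorem uu {v : X} (hv : v ∈ H.U) : v * v = 1 := ((H.memU v).mp hv).2
theorem ucomm {v : X} (hv : v ∈ H.U) (g : X) : g * v = v * g := mem_center_iff.mp (H.U_center hv) g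

theorem σU {v : X} (hv : v ∈ H.U) : H.σ v ∈ H.U :=
  (H.memU _).mpr ⟨H.inv _ H.rot.1 v (H.uY hv), by rw [← map_mul, H.uu hv, map_one]⟩

theorem σσσ {v : X} (hv : v ∈ H.U) : H.σ (H.σ (H.σ v)) = v := by
  rw [H.rot.2.2.2.1 (H.σ v) (H.σU hv), H.rot.2.2.2.1 v hv, ← mul_assoc, H.ucomm hv, mul_assoc,
    H.uu (H.σU hv), mul_one]

theorem cases_U [Finite X] {v : X} (hv : v ∈ H.U) (hv1 : v ≠ 1) {w : X} (hw : w ∈ H.U) :
    w = 1 ∨ w = v ∨ w = H.σ v ∨ w = v * H.σ v :=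
  (eq_of_four (fun _ h => H.uu h) H.rot.2.1.le hv (H.σU hv) hv1
    (fun h => hv1 (H.σ.injective (h.trans (map_one H.σ).symm)))
    (Ne.symm (H.rot.2.2.1 v hv hv1))).2 w hw

/-- The elements killed by the `2^j`-th power are `2^(S-j)`-th powers. -/
theorem exists_root : ∀ j, j ≤ H.S → ∀ y ∈ H.Y, y ^ 2 ^ j = 1 →
    ∃ e ∈ H.Y, e ^ 2 ^ (H.S - j) = y := by
  intro j
  induction j with
  | zero => exact fun _ y _ h => ⟨1, H.Y.one_mem, by rw [one_pow]; rw [pow_zero, pow_one] at h; exact h.symm⟩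
  | succ j ih =>
    intro hj y hy h
    obtain ⟨e, he, hee⟩ := ih (by omega) (y * y) (H.Y.mul_mem hy hy) (by
      rw [← pow_two, ← pow_mul, ← pow_succ']; exact h)
    obtain ⟨f, hf⟩ : ∃ f, f = e ^ 2 ^ (H.S - (j + 1)) := ⟨_, rfl⟩
    have hfY : f ∈ H.Y := hf ▸ H.Y.pow_mem he _
    have hff : f * f = y * y := by
      rw [hf, ← pow_add, ← two_mul, ← pow_succ', show H.S - (j + 1) + 1 = H.S - j by omega]
      exact hee
    have hU : y * f⁻¹ ∈ H.U := (H.memU _).mpr ⟨H.Y.mul_mem hy (H.Y.inv_mem hfY), by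
      calc y * f⁻¹ * (y * f⁻¹) = y * (f⁻¹ * y) * f⁻¹ := by group
        _ = y * y * (f * f)⁻¹ := by rw [H.comm _ (H.Y.inv_mem hfY) _ hy]; group
        _ = 1 := by rw [hff, mul_inv_cancel]⟩
    obtain ⟨g, hg, hgg⟩ := H.root _ hU
    refine ⟨g ^ 2 ^ j * e, H.Y.mul_mem (H.Y.pow_mem hg _) he, ?_⟩
    rw [(show Commute (g ^ 2 ^ j) e from H.comm _ (H.Y.pow_mem hg _) _ he).mul_pow, ← hf, ← pow_mul,
      ← pow_add, show j + (H.S - (j + 1)) = H.S - 1 by omega, hgg, inv_mul_cancel_right]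

theorem exists_sqrt {y : X} (hy : y ∈ H.Y) (h : y ^ 2 ^ (H.S - 1) = 1) : ∃ e ∈ H.Y, e * e = y := by
  obtain ⟨e, he, hee⟩ := H.exists_root (H.S - 1) (by omega) y hy h
  rw [show H.S - (H.S - 1) = 1 by have := H.S_pos; omega, pow_one, pow_two] at hee
  exact ⟨e, he, hee⟩

theorem top_mem {y : X} (hy : y ∈ H.Y) : y ^ 2 ^ (H.S - 1) ∈ H.U :=
  (H.memU _).mpr ⟨H.Y.pow_mem hy _, by
    rw [← pow_add, ← two_mul, ← pow_succ', show H.S - 1 + 1 = H.S by have := H.S_pos; omega]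
    exact H.exp y hy⟩

/-- The map induced by conjugation. -/
def eps (_H : Homo D) (x d : X) : X := x * d * x⁻¹ * d⁻¹

theorem eps_mem {x d : X} (hd : d ∈ H.Y) : H.eps x d ∈ H.Y :=
  H.Y.mul_mem (H.normal.conj_mem d hd x) (H.Y.inv_mem hd)

theorem eps_mul_right {x d e : X} (hd : d ∈ H.Y) (he : e ∈ H.Y) :
    H.eps x (d * e) = H.eps x d * H.eps x e := by
  calc H.eps x (d * e) = (x * d * x⁻¹) * H.eps x e * d⁻¹ := by unfold eps; group
    _ = (x * d * x⁻¹) * (H.eps x e * d⁻¹) := by group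
    _ = (x * d * x⁻¹) * (d⁻¹ * H.eps x e) := by rw [H.comm _ (H.eps_mem he) _ (H.Y.inv_mem hd)]
    _ = _ := by unfold eps; group

theorem eps_one (x : X) : H.eps x 1 = 1 := by unfold eps; group

theorem eps_pow {x d : X} (hd : d ∈ H.Y) (n : ℕ) : H.eps x (d ^ n) = H.eps x d ^ n := by
  induction n with
  | zero => rw [pow_zero, pow_zero, H.eps_one]
  | succ n ih => rw [pow_succ, pow_succ, H.eps_mul_right (H.Y.pow_mem hd _) hd, ih]

theorem eps_U {x v : X} (hv : v ∈ H.U) : H.eps x v = 1 := by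
  unfold eps; rw [H.ucomm hv x, mul_inv_cancel_right, mul_inv_cancel]

theorem eps_mul_left {x y d : X} :
    H.eps (x * y) d = H.eps x (H.eps y d) * H.eps y d * H.eps x d := by
  unfold eps; group

theorem eps_map (φ : MulAut X) (x d : X) : φ (H.eps x d) = H.eps (φ x) (φ d) := by
  simp [eps, map_mul, map_inv]

theorem eps_sqrt (x : X) {d : X} (hd : d ∈ H.Y) : ∃ e ∈ H.Y, e * e = H.eps x d :=
  H.exists_sqrt (H.eps_mem hd) (by rw [← H.eps_pow hd, H.eps_U (H.top_mem hd)])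

variable [Finite X]

/-- The orbit identity for equivariant families of maps of `U`. -/
theorem orbit (g : X → X → X) (hg : ∀ x, ∀ v ∈ H.U, g x v ∈ H.U)
    (hmul : ∀ x y, ∀ v ∈ H.U, g (x * y) v = g x v * g y v)
    (heq : ∀ ψ ∈ D.A, ∀ x, ∀ v ∈ H.U, g (ψ x) (ψ v) = ψ (g x v)) (x : X) {v : X} (hv : v ∈ H.U) :
    g x v * H.σ (g x (H.σ (H.σ v))) * H.σ (H.σ (g x (H.σ v))) = 1 := by
  obtain ⟨σ, hσ⟩ : ∃ σ, σ = H.σ := ⟨_, rfl⟩
  rw [← hσ]
  have s1 : ∀ w ∈ H.U, σ w ∈ H.U := hσ ▸ fun w hw => H.σU hw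
  have s3 : ∀ w ∈ H.U, σ (σ (σ w)) = w := hσ ▸ fun w hw => H.σσσ hw
  let F : X → X := fun y => g y v * σ (g y (σ (σ v))) * σ (σ (g y (σ v)))
  have hF : ∀ y, F y ∈ H.U := fun y => H.U.mul_mem (H.U.mul_mem (hg y v hv)
    (s1 _ (hg y _ (s1 _ (s1 v hv))))) (s1 _ (s1 _ (hg y _ (s1 v hv))))
  have hFmul : ∀ y y', F (y * y') = F y * F y' := by
    intro y y'
    simp only [F, hmul y y' v hv, hmul y y' _ (s1 _ (s1 v hv)), hmul y y' _ (s1 v hv), map_mul]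
    obtain ⟨a, ha⟩ : ∃ a, a = g y' v := ⟨_, rfl⟩
    obtain ⟨b, hb⟩ : ∃ b, b = σ (g y' (σ (σ v))) := ⟨_, rfl⟩
    obtain ⟨c, hc⟩ : ∃ c, c = σ (σ (g y (σ v))) := ⟨_, rfl⟩
    obtain ⟨p, hp⟩ : ∃ p, p = σ (g y (σ (σ v))) := ⟨_, rfl⟩
    have ca : ∀ w, w * a = a * w := fun w => H.ucomm (ha ▸ hg y' v hv) w
    have cb : ∀ w, w * b = b * w := fun w => H.ucomm (hb ▸ s1 _ (hg y' _ (s1 _ (s1 v hv)))) w
    rw [← ha, ← hb, ← hc, ← hp]
    calc g y v * a * (p * b) * (c * σ (σ (g y' (σ v))))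
        = g y v * (a * p) * (b * c) * σ (σ (g y' (σ v))) := by group
      _ = g y v * (p * a) * (c * b) * σ (σ (g y' (σ v))) := by rw [ca p, cb c]
      _ = g y v * p * (a * c) * b * σ (σ (g y' (σ v))) := by group
      _ = g y v * p * (c * a) * b * σ (σ (g y' (σ v))) := by rw [ca c]
      _ = _ := by group
  let f : X →* H.U := MonoidHom.mk' (fun y => ⟨F y, hF y⟩) fun y y' => Subtype.ext (hFmul y y')
  have hinv : ∀ ψ ∈ D.A, ∀ y, f (ψ y) = f y := by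
    intro ψ hψ y
    refine Subtype.ext ?_
    show g (ψ y) v * σ (g (ψ y) (σ (σ v))) * σ (σ (g (ψ y) (σ v))) =
      g y v * σ (g y (σ (σ v))) * σ (σ (g y (σ v)))
    rcases H.rot.2.2.2.2 ψ hψ with h | h | h <;> rw [← hσ] at *
    · have e : ∀ w ∈ H.U, g (ψ y) w = g y w := fun w hw => by
        have := heq ψ hψ y w hw
        rwa [h w hw, h _ (hg y w hw)] at this
      rw [e v hv, e _ (s1 _ (s1 v hv)), e _ (s1 v hv)]
    · have e : ∀ w ∈ H.U, g (ψ y) w = σ (g y (σ (σ w))) := fun w hw => by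
        have := heq ψ hψ y _ (s1 _ (s1 w hw))
        rwa [h _ (s1 _ (s1 w hw)), h _ (hg y _ (s1 _ (s1 w hw))), s3 w hw] at this
      rw [e v hv, e _ (s1 _ (s1 v hv)), e _ (s1 v hv), s3 v hv, s3 _ (hg y v hv)]
      rw [mul_assoc (g y v), ← H.ucomm (hg y v hv)]
    · have e : ∀ w ∈ H.U, g (ψ y) w = σ (σ (g y (σ w))) := fun w hw => by
        have := heq ψ hψ y _ (s1 w hw)
        rwa [h _ (s1 w hw), h _ (hg y _ (s1 w hw)), s3 w hw] at this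
      rw [e v hv, e _ (s1 _ (s1 v hv)), e _ (s1 v hv), s3 v hv, s3 _ (hg y v hv),
        s3 _ (hg y _ (s1 _ (s1 v hv)))]
      rw [mul_assoc, ← H.ucomm (H.U.mul_mem (hg y v hv) (s1 _ (hg y _ (s1 _ (s1 v hv)))))]
  exact congrArg Subtype.val (D.hom_trivial
    (fun a c => Subtype.ext (H.ucomm c.2 a)) f hinv x)

/-- Each map of such a family is trivial or injective. -/
theorem orbit_injective (g : X → X → X) (hg : ∀ x, ∀ v ∈ H.U, g x v ∈ H.U)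
    (hmul : ∀ x y, ∀ v ∈ H.U, g (x * y) v = g x v * g y v)
    (hadd : ∀ x, ∀ v ∈ H.U, ∀ w ∈ H.U, g x (v * w) = g x v * g x w)
    (heq : ∀ ψ ∈ D.A, ∀ x, ∀ v ∈ H.U, g (ψ x) (ψ v) = ψ (g x v)) (x : X) {v : X} (hv : v ∈ H.U)
    (hv1 : v ≠ 1) (h : g x v = 1) : ∀ w ∈ H.U, g x w = 1 := by
  obtain ⟨b, hb⟩ : ∃ b, b = g x (H.σ v) := ⟨_, rfl⟩
  have hbU : b ∈ H.U := hb ▸ hg x _ (H.σU hv)
  have hvs : g x (H.σ (H.σ v)) = b := by
    rw [H.rot.2.2.2.1 v hv, hadd x v hv _ (H.σU hv), h, one_mul, hb]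
  have ho := H.orbit g hg hmul heq x hv
  rw [h, hvs, ← hb, one_mul, H.rot.2.2.2.1 b hbU, ← mul_assoc, ← H.ucomm (H.σU hbU) b, mul_assoc,
    H.uu (H.σU hbU), mul_one] at ho
  intro w hw
  rcases H.cases_U hv hv1 hw with rfl | rfl | rfl | rfl
  · have := hadd x 1 H.U.one_mem 1 H.U.one_mem
    rw [mul_one] at this
    exact left_eq_mul.mp this
  · exact h
  · rw [← hb, ho]
  · rw [hadd x v hv _ (H.σU hv), h, ← hb, ho, one_mul]

end Homo

end Cfsg.Agent.OddAutTwo
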