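import Mathlib

/-!
# Functions of bounded degree on groups and the Chevalley–Warning bound
-/

set_option autoImplicit false

namespace Cfsg.Agent.OddAutTwo

open Subgroup

universe u

/-- A function to the field of two elements of degree at most `d`. -/
def Deg {G : Type u} [Group G] : ℕ → (G → ZMod 2) → Prop
  | 0, f => ∀ x, f x = f 1
  | d + 1, f => ∀ h, Deg d fun x => f (h * x) + f x

section
variable {G : Type u} [Group G]

theorem deg_zero_fun : ∀ d, Deg d (fun _ : G => (0 : ZMod 2))
  | 0 => fun _ => rfl
  | d + 1 => fun _ => by simpa using deg_zero_fun d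

theorem deg_succ : ∀ {d : ℕ} {f : G → ZMod 2}, Deg d f → Deg (d + 1) f
  | 0, f, hf => fun h x => by simp only [hf (h * x), hf x, hf (h * 1), hf 1]
  | d + 1, f, hf => fun h => deg_succ (hf h)

theorem deg_add : ∀ {d : ℕ} {f g : G → ZMod 2}, Deg d f → Deg d g → Deg d (fun x => f x + g x)
  | 0, f, g, hf, hg => fun x => by simp only [hf x, hg x]
  | d + 1, f, g, hf, hg => fun h => by
    have := deg_add (hf h) (hg h)
    refine (congrArg (Deg d) ?_).mp this
    funext x; ring

theorem deg_shift : ∀ {d : ℕ} {f : G → ZMod 2}, Deg d f → ∀ a, Deg d (fun x => f (a * x))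
  | 0, f, hf, a => fun x => by simp only [hf (a * x), hf (a * 1)]
  | d + 1, f, hf, a => fun h => by
    have := deg_shift (hf (a * h * a⁻¹)) a
    refine (congrArg (Deg d) ?_).mp this
    funext x
    rw [show a * h * a⁻¹ * (a * x) = a * (h * x) by group]

theorem deg_mul : ∀ {a b : ℕ} {f g : G → ZMod 2}, Deg a f → Deg b g → Deg (a + b) (fun x => f x * g x)
  | 0, 0, f, g, hf, hg => fun x => by simp only [hf x, hg x]
  | 0, b + 1, f, g, hf, hg => fun h => by
    have := deg_mul hf (hg h)
    refine (congrArg (Deg (0 + b)) ?_).mp this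
    funext x
    simp only [hf (h * x), hf x]
    ring
  | a + 1, 0, f, g, hf, hg => fun h => by
    have := deg_mul (hf h) hg
    refine (congrArg (Deg (a + 0)) ?_).mp this
    funext x
    simp only [hg (h * x), hg x]
    ring
  | a + 1, b + 1, f, g, hf, hg => fun h => by
    have h1 := deg_mul (hf h) (deg_shift hg h)
    have h2 := deg_mul hf (hg h)
    rw [show a + (b + 1) = a + 1 + b by omega] at h1
    have := deg_add h1 h2
    refine (congrArg (Deg _) ?_).mp this
    funext x
    ring_nf
    have h2 : (2 : ZMod 2) = 0 := rfl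
    simp only [h2, mul_zero, add_zero, zero_add]

theorem deg_descend {H : Type u} [Group H] (π : G →* H) (hπ : Function.Surjective π) :
    ∀ {d : ℕ} {g : H → ZMod 2}, Deg d (fun x => g (π x)) → Deg d g
  | 0, g, hg => fun y => by
    obtain ⟨x, rfl⟩ := hπ y
    have := hg x
    simp only [map_one] at this
    exact this
  | d + 1, g, hg => fun h => by
    obtain ⟨k, rfl⟩ := hπ h
    refine deg_descend π hπ ?_
    have := hg k
    simp only [map_mul] at this
    exact this

end

/-- On a group of exponent two the values of a function of small degree sum to zero. -/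
theorem sum_eq_zero (d : ℕ) : ∀ {V : Type u} [CommGroup V] [Fintype V], (∀ v : V, v * v = 1) →
    ∀ f : V → ZMod 2, Deg d f → 2 ^ d < Nat.card V → ∑ v, f v = 0 := by
  induction d with
  | zero =>
    intro V _ _ hV f hf hlt
    have hev : 2 ∣ Fintype.card V := by
      have : Nontrivial V := Finite.one_lt_card_iff_nontrivial.mp (by simpa using hlt)
      obtain ⟨v, hv⟩ := exists_ne (1 : V)
      have : Fact (Nat.Prime 2) := ⟨Nat.prime_two⟩
      rw [← orderOf_eq_prime (p := 2) (by rw [pow_two, hV]) hv]
      exact orderOf_dvd_card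
    obtain ⟨k, hk⟩ := hev
    rw [Finset.sum_congr rfl (fun v _ => hf v), Finset.sum_const, Finset.card_univ, nsmul_eq_mul, hk]
    push_cast
    rw [show (2 : ZMod 2) = 0 from rfl, zero_mul, zero_mul]
  | succ d sum_eq_zero =>
    intro V _ _ hV f hf hlt
    classical
    have : Nontrivial V := Finite.one_lt_card_iff_nontrivial.mp
      (lt_of_le_of_lt (Nat.one_le_two_pow) hlt)
    obtain ⟨h, hh⟩ := exists_ne (1 : V)
    have : Fact (Nat.Prime 2) := ⟨Nat.prime_two⟩
    have hord : orderOf h = 2 := orderOf_eq_prime (by rw [pow_two, hV]) hh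
    have hK : Nat.card (zpowers h) = 2 := by rw [Nat.card_zpowers, hord]
    have hKm : ∀ k ∈ zpowers h, k = 1 ∨ k = h := by
      intro k hk
      obtain ⟨i, rfl⟩ := mem_zpowers_iff.mp hk
      rw [← zpow_mod_orderOf, hord]
      rcases Int.emod_two_eq_zero_or_one i with e | e <;> push_cast <;> rw [e]
      · exact Or.inl (zpow_zero h)
      · exact Or.inr (zpow_one h)
    obtain ⟨g, hg⟩ : ∃ g : V → ZMod 2, g = fun x => f (h * x) + f x := ⟨_, rfl⟩
    have hgd : Deg d g := hg ▸ hf h
    have hginv : ∀ x, g (h * x) = g x := fun x => by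
      simp only [hg, ← mul_assoc, hV, one_mul]; ring
    let g' : V ⧸ zpowers h → ZMod 2 := fun q => g q.out
    have hg' : ∀ x : V, g' x = g x := fun x => by
      obtain ⟨k, hk⟩ := QuotientGroup.mk_out_eq_mul (zpowers h) x
      show g (Quotient.out (x : V ⧸ zpowers h)) = g x
      rw [hk]
      rcases hKm k k.2 with e | e <;> rw [e]
      · rw [mul_one]
      · rw [mul_comm, hginv]
    have hd' : Deg d g' := deg_descend (QuotientGroup.mk' (zpowers h)) (QuotientGroup.mk'_surjective _)
      (by simpa [hg'] using hgd)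
    have hcard : Nat.card V = Nat.card (V ⧸ zpowers h) * 2 := by
      rw [Subgroup.card_eq_card_quotient_mul_card_subgroup (zpowers h), hK]
    have : Fintype (V ⧸ zpowers h) := Fintype.ofFinite _
    have ih := @sum_eq_zero (V ⧸ zpowers h) _ _ (fun q => by
      obtain ⟨x, rfl⟩ := QuotientGroup.mk_surjective q
      rw [← QuotientGroup.mk_mul, hV]; rfl) g' hd' (by rw [pow_succ, hcard] at hlt; omega)
    have : Fintype (zpowers h) := Fintype.ofFinite _
    let e : (V ⧸ zpowers h) × zpowers h → V := fun p => p.1.out * (p.2 : V)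
    have he : Function.Bijective e := by
      rw [Fintype.bijective_iff_surjective_and_card]
      refine ⟨fun x => ?_, ?_⟩
      · obtain ⟨k, hk⟩ := QuotientGroup.mk_out_eq_mul (zpowers h) x
        refine ⟨((x : V ⧸ zpowers h), k⁻¹), ?_⟩
        show Quotient.out (x : V ⧸ zpowers h) * _ = x
        rw [hk]; simp
      · rw [Fintype.card_prod, ← Nat.card_eq_fintype_card, ← Nat.card_eq_fintype_card,
          ← Nat.card_eq_fintype_card, hK, ← hcard]
    rw [← (Equiv.ofBijective e he).sum_comp, Fintype.sum_prod_type]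
    refine (Finset.sum_congr rfl fun q _ => ?_).trans ih
    have hu : (Finset.univ : Finset (zpowers h)) = {1, ⟨h, mem_zpowers h⟩} := by
      ext k
      simp only [Finset.mem_univ, Finset.mem_insert, Finset.mem_singleton, true_iff]
      rcases hKm k k.2 with e | e
      · exact Or.inl (Subtype.ext e)
      · exact Or.inr (Subtype.ext e)
    rw [hu, Finset.sum_pair (by simp [Subtype.ext_iff, hh.symm])]
    show f (q.out * ((1 : zpowers h) : V)) + f (q.out * h) = g q.out
    simp only [hg, OneMemClass.coe_one, mul_one]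
    rw [mul_comm h, add_comm]

/-- A subgroup which is exactly the set of ones of a function of degree `d` has index at most `2 ^ d`. -/
theorem index_le {G : Type u} [Group G] [Finite G] (N : Subgroup G) [N.Normal]
    (hexp : ∀ x : G, x * x ∈ N) {d : ℕ} (f : G → ZMod 2) (hf : Deg d f)
    (h1 : ∀ x ∈ N, f x = 1) (h0 : ∀ x ∉ N, f x = 0) : N.index ≤ 2 ^ d := by
  classical
  by_contra hlt
  have hsq : ∀ v : G ⧸ N, v * v = 1 := fun v => by
    obtain ⟨x, rfl⟩ := QuotientGroup.mk_surjective v
    rw [← QuotientGroup.mk_mul, QuotientGroup.eq_one_iff]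
    exact hexp x
  letI : CommGroup (G ⧸ N) :=
    { (inferInstance : Group (G ⧸ N)) with
      mul_comm := fun a c => by
        have h := inv_eq_of_mul_eq_one_right (hsq (a * c))
        rw [mul_inv_rev, inv_eq_of_mul_eq_one_right (hsq a), inv_eq_of_mul_eq_one_right (hsq c)] at h
        exact h.symm }
  have : Fintype (G ⧸ N) := Fintype.ofFinite _
  let F : G ⧸ N → ZMod 2 := fun v => if v = 1 then 1 else 0
  have hF : ∀ x : G, F (QuotientGroup.mk' N x) = f x := fun x => by
    by_cases hx : x ∈ N
    · simp [F, h1 x hx, (QuotientGroup.eq_one_iff x).mpr hx]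
    · simp [F, h0 x hx, QuotientGroup.eq_one_iff, hx]
  have hd : Deg d F := deg_descend (QuotientGroup.mk' N) (QuotientGroup.mk'_surjective _)
    (by simpa only [hF] using hf)
  have := sum_eq_zero d hsq F hd (by
    rw [show Nat.card (G ⧸ N) = N.index from rfl]; omega)
  simp [F] at this

end Cfsg.Agent.OddAutTwo
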