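import Cfsg.Agent.OddAutTwo.Phi
import Cfsg.Agent.OddAutTwo.Quadratic
import Cfsg.Agent.Fusion.UniqueInvolution
import Cfsg.Agent.MaxClass.Metacyclic
import Cfsg.Prelude.Def_Transfer

/-!
# The three groups
-/

set_option autoImplicit false

namespace Cfsg.Agent.OddAutTwo

open Subgroup
open scoped commutatorElement

/-- The commutator. -/
def co {X : Type*} [Group X] (x y : X) : X := x * y * x⁻¹ * y⁻¹

theorem co_eq_one {X : Type*} [Group X] {x y : X} : co x y = 1 ↔ x * y = y * x := by
  rw [co, mul_inv_eq_one, mul_inv_eq_iff_eq_mul]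

namespace Data

variable {X : Type*} [Group X] [Finite X] (D : Data X)

include D in
theorem co_center (x y : X) : co x y ∈ center X := by
  rw [show co x y = (x * x) * ((x⁻¹ * y) * (x⁻¹ * y)) * (y * y)⁻¹ by unfold co; group]
  exact (center X).mul_mem ((center X).mul_mem (D.sq_central x) (D.sq_central _))
    ((center X).inv_mem (D.sq_central y))

include D in
theorem co_comm (x y g : X) : g * co x y = co x y * g := mem_center_iff.mp (D.co_center x y) g

include D in
theorem co_mul_left (x y w : X) : co (x * y) w = co x w * co y w := by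
  calc co (x * y) w = x * co y w * (w * x⁻¹ * w⁻¹) := by unfold co; group
    _ = co y w * x * (w * x⁻¹ * w⁻¹) := by rw [D.co_comm]
    _ = co y w * co x w := by unfold co; group
    _ = co x w * co y w := by rw [D.co_comm]

include D in
theorem co_sq (x y : X) : co x y * co x y = 1 := by
  have hc : x * x * y = y * (x * x) := (mem_center_iff.mp (D.sq_central x) y).symm
  rw [← D.co_mul_left, co_eq_one]
  exact hc

include D in
theorem co_symm (x y : X) : co y x = co x y := by
  have e : co y x = (co x y)⁻¹ := by unfold co; group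
  rw [e, inv_eq_of_mul_eq_one_right (D.co_sq x y)]

include D in
theorem co_mul_right (x y w : X) : co x (y * w) = co x y * co x w := by
  rw [← D.co_symm, D.co_mul_left, D.co_symm, D.co_symm w]

include D in
theorem sq_mul' (x y : X) : x * y * (x * y) = co x y * (x * x * (y * y)) := by
  calc x * y * (x * y) = x * (co y x) * (x * y) * y := by unfold co; group
    _ = co y x * x * (x * y) * y := by rw [D.co_comm]
    _ = _ := by rw [D.co_symm y x]; group

/-- An involution commuting with a normal subgroup of exponent two of order four lies in it, if its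
commutators lie there. -/
theorem no_eight (U : Subgroup X) (hn : U.Normal) (hU : ∀ v ∈ U, v * v = 1) (h4 : 4 ≤ Nat.card U)
    {u : X} (hu : u * u = 1) (hcu : ∀ v ∈ U, u * v = v * u) (hcom : ∀ y, co y u ∈ U) (D : Data X) :
    u ∈ U := by
  by_contra hne
  have ui : u⁻¹ = u := inv_eq_of_mul_eq_one_right hu
  let W : Subgroup X :=
    { carrier := {g | g ∈ U ∨ g * u ∈ U}
      mul_mem' := fun {g h} hg hh => by
        rcases hg with hg | hg <;> rcases hh with hh | hh
        · exact Or.inl (U.mul_mem hg hh)
        · exact Or.inr (by rw [mul_assoc]; exact U.mul_mem hg hh)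
        · refine Or.inr ?_
          rw [mul_assoc g, ← hcu h hh, ← mul_assoc]
          exact U.mul_mem hg hh
        · refine Or.inl ?_
          have e : g * h = (g * u) * (h * u) := by
            calc g * h = g * u * (u * (h * u)) * u := by
                  rw [show g * u * (u * (h * u)) * u = g * (u * u) * h * (u * u) by group, hu, mul_one, mul_one]
              _ = g * u * ((h * u) * u) * u := by rw [hcu _ hh]
              _ = g * u * (h * u) * (u * u) := by group
              _ = g * u * (h * u) := by rw [hu, mul_one]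
          rw [e]
          exact U.mul_mem hg hh
      one_mem' := Or.inl U.one_mem
      inv_mem' := fun {g} hg => by
        rcases hg with hg | hg
        · exact Or.inl (U.inv_mem hg)
        · refine Or.inr ?_
          have := U.inv_mem hg
          have e : g⁻¹ * u = u * (g * u)⁻¹ * u := by group
          rw [e, hcu _ this, mul_assoc, hu, mul_one]
          exact this }
  have hWn : W.Normal := ⟨fun g hg y => by
    rcases hg with hg | hg
    · exact Or.inl (hn.conj_mem g hg y)
    · refine Or.inr ?_
      have e : y * g * y⁻¹ * u = (y * (g * u) * y⁻¹) * (y * u⁻¹ * y⁻¹ * u) := by group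
      rw [e]
      refine U.mul_mem (hn.conj_mem _ hg y) ?_
      have := hcom y
      unfold co at this
      rwa [ui] at this ⊢⟩
  have hexp : ∀ g ∈ W, g * g = 1 := by
    intro g hg
    rcases hg with hg | hg
    · exact hU g hg
    · obtain ⟨v, hv⟩ : ∃ v, v = g * u := ⟨_, rfl⟩
      have hgv : g = v * u := by rw [hv, mul_assoc, hu, mul_one]
      rw [hgv]
      calc v * u * (v * u) = v * (u * v) * u := by group
        _ = (v * v) * (u * u) := by rw [hcu v (hv ▸ hg)]; group
        _ = 1 := by rw [hU v (hv ▸ hg), hu, mul_one]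
  have hle : U ≤ W := fun g hg => Or.inl hg
  have hlt : U < W := lt_of_le_of_ne hle fun e => hne (by rw [e]; exact Or.inr (by rw [hu]; exact U.one_mem))
  exact hlt.ne (Subgroup.eq_of_le_of_card_ge hle ((D.small W hWn hexp).trans h4))

include D in
theorem center_exp_two (hna : ¬ IsMulCommutative X) : ∀ z ∈ center X, z * z = 1 := by
  have hc : ∀ a ∈ center X, ∀ c ∈ center X, a * c = c * a := fun a _ c hc => mem_center_iff.mp hc a
  by_cases hmove : ∃ φ ∈ D.A, ∃ z ∈ center X, φ z ≠ z
  · obtain ⟨H, hH⟩ := exists_homo D (center X) hc D.inv_center hmove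
    intro z hz
    by_contra hne
    have hS : 2 ≤ H.S := by
      by_contra h
      have := H.exp z (hH ▸ hz)
      rw [show H.S = 1 by have := H.S_pos; omega, pow_one, pow_two] at this
      exact hne this
    refine hna ⟨⟨fun a c => H.abelian_of_sq hS ⊤ le_top (fun _ _ _ _ => mem_top _)
      (fun g _ y hy => mem_center_iff.mp (hH ▸ hy : y ∈ center X) g) (fun g _ => hH ▸ D.sq_central g)
      (fun a _ c _ => (H.memU _).mpr ⟨hH ▸ D.co_center a c, D.co_sq a c⟩)
      (fun g _ hg => ?_) a (mem_top a) c (mem_top c)⟩⟩
    obtain ⟨e, he, hee⟩ := H.exists_sqrt (hH ▸ D.sq_central g) hg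
    have hec : ∀ w, w * e⁻¹ = e⁻¹ * w := fun w =>
      mem_center_iff.mp ((center X).inv_mem (hH ▸ he)) w
    have hu : g * e⁻¹ * (g * e⁻¹) = 1 := by
      calc g * e⁻¹ * (g * e⁻¹) = g * (e⁻¹ * g) * e⁻¹ := by group
        _ = (g * g) * (e * e)⁻¹ := by rw [← hec g]; group
        _ = 1 := by rw [hee, mul_inv_cancel]
    have := D.no_three H.U H.U_center (fun v hv => H.uu hv) H.rot.2.1.ge hu fun y =>
      (H.memU _).mpr ⟨hH ▸ D.co_center y _, D.co_sq y _⟩
    have h2 := H.Y.mul_mem (H.uY this) he
    rwa [inv_mul_cancel_right] at h2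
  · push Not at hmove
    have e4 : ∀ x : X, (x * x) * (x * x) = 1 := by
      intro x
      let f : X →* center X := MonoidHom.mk' (fun x => ⟨(x * x) * (x * x), mul_mem (D.sq_central x) (D.sq_central x)⟩)
        fun a c => Subtype.ext (by
          show a * c * (a * c) * (a * c * (a * c)) = a * a * (a * a) * (c * c * (c * c))
          rw [D.sq_mul' a c]
          have h1 : ∀ w, w * (c * c) = c * c * w := fun w => mem_center_iff.mp (D.sq_central c) w
          calc co a c * (a * a * (c * c)) * (co a c * (a * a * (c * c)))
              = co a c * ((a * a * (c * c)) * co a c) * (a * a * (c * c)) := by group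
            _ = (co a c * co a c) * (a * a * ((c * c) * (a * a)) * (c * c)) := by rw [D.co_comm]; group
            _ = _ := by rw [D.co_sq, one_mul, ← h1 (a * a)]; group)
      exact congrArg Subtype.val (D.hom_trivial (fun a c => Subtype.ext (hc _ a.2 _ c.2)) f
        (fun φ hφ y => Subtype.ext (by
          show φ y * φ y * (φ y * φ y) = _
          rw [← map_mul, ← map_mul]
          exact hmove φ hφ _ (mul_mem (D.sq_central y) (D.sq_central y)))) x)
    let U : Subgroup X :=
      { carrier := {v | v ∈ center X ∧ v * v = 1}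
        mul_mem' := fun {a c} ha hb => ⟨mul_mem ha.1 hb.1, by
          calc a * c * (a * c) = a * (c * a) * c := by group
            _ = (a * a) * (c * c) := by rw [hc c hb.1 a ha.1]; group
            _ = 1 := by rw [ha.2, hb.2, mul_one]⟩
        one_mem' := ⟨one_mem _, mul_one 1⟩
        inv_mem' := fun {a} ha => ⟨inv_mem ha.1, by
          rw [inv_eq_of_mul_eq_one_right ha.2]; exact ha.2⟩ }
    have hΦ : frattini X ≤ U :=
      MaxClass.mem_frattini_sq D.isTwo U fun x => ⟨D.sq_central x, e4 x⟩
    intro z hz
    have : Group.IsNilpotent X := by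
      have : Fact (Nat.Prime 2) := ⟨Nat.prime_two⟩
      exact D.isTwo.isNilpotent
    refine (hΦ (D.mem_of_fixed (frattini X) Core.commutator_le_frattini
      (D.inv_of_char _ inferInstance) fun φ hφ => ?_)).2
    rw [hmove φ hφ z hz, inv_mul_cancel]
    exact one_mem _

include D in
theorem center_card (hna : ¬ IsMulCommutative X) : Nat.card (center X) = 2 ∨ Nat.card (center X) = 4 := by
  have : Fact (Nat.Prime 2) := ⟨Nat.prime_two⟩
  have h4 := D.small (center X) inferInstance (D.center_exp_two hna)
  have : Nontrivial X := by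
    by_contra h
    rw [not_nontrivial_iff_subsingleton] at h
    exact hna ⟨⟨fun a c => Subsingleton.elim _ _⟩⟩
  have := D.isTwo.center_nontrivial
  obtain ⟨k, hk⟩ := IsPGroup.iff_card.mp (D.isTwo.to_subgroup (center X))
  have h1 : 1 < Nat.card (center X) := Finite.one_lt_card
  rw [hk] at h4 h1 ⊢
  have : k ≤ 2 := (Nat.pow_le_pow_iff_right (le_refl 2)).mp (show 2 ^ k ≤ 2 ^ 2 from h4)
  interval_cases k <;> simp_all

include D in
/-- The group is special. -/
theorem isSpecial (hna : ¬ IsMulCommutative X) : Cfsg.IsSpecial 2 X := by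
  have : Fact (Nat.Prime 2) := ⟨Nat.prime_two⟩
  have : Group.IsNilpotent X := D.isTwo.isNilpotent
  have hle : frattini X ≤ center X := MaxClass.mem_frattini_sq D.isTwo _ D.sq_central
  have hle' : commutator X ≤ center X := Core.commutator_le_frattini.trans hle
  have hne : commutator X ≠ ⊥ := fun h => hna ⟨⟨fun a c => by
    have hh : ⁅a, c⁆ ∈ commutator X := by
      rw [_root_.commutator_def]; exact commutator_mem_commutator (mem_top a) (mem_top c)
    rw [h, mem_bot, commutatorElement_eq_one_iff_mul_comm] at hh
    exact hh⟩⟩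
  have hexp := D.center_exp_two hna
  have hcen : center X ≤ commutator X := by
    by_cases hmove : ∃ φ ∈ D.A, ∃ z ∈ center X, φ z ≠ z
    · obtain ⟨σ, hσ, hc, hfpf, -, -⟩ := D.exists_rot (center X) hexp
        (D.small _ inferInstance hexp) D.inv_center hmove
      obtain ⟨v, hv, hv1⟩ := (Subgroup.bot_or_exists_ne_one _).resolve_left hne
      have hσv : σ v ∈ commutator X := D.inv_of_char _ inferInstance σ hσ v hv
      obtain ⟨-, hall⟩ := eq_of_four hexp hc.le (hle' hv) (hle' hσv) hv1
        (fun h => hv1 (σ.injective (h.trans (map_one σ).symm))) (Ne.symm (hfpf v (hle' hv) hv1))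
      intro w hw
      rcases hall w hw with rfl | rfl | rfl | rfl
      exacts [one_mem _, hv, hσv, mul_mem hv hσv]
    · push Not at hmove
      have hsq : ∀ x : X, x * x ∈ commutator X := by
        intro x
        let π := QuotientGroup.mk' (commutator X)
        have comm : ∀ a c : X ⧸ commutator X, a * c = c * a := fun a c => by
          obtain ⟨a, rfl⟩ := QuotientGroup.mk'_surjective _ a
          obtain ⟨c, rfl⟩ := QuotientGroup.mk'_surjective _ c
          rw [← map_mul, ← map_mul, QuotientGroup.mk'_eq_mk']
          refine ⟨⁅c⁻¹, a⁻¹⁆, ?_, by rw [commutatorElement_def]; group⟩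
          rw [_root_.commutator_def]
          exact commutator_mem_commutator (mem_top _) (mem_top _)
        let f : X →* X ⧸ commutator X := MonoidHom.mk' (fun x => π x * π x) fun a c => by
          simp only [map_mul]
          rw [mul_assoc, ← mul_assoc (π c), comm (π c) (π a)]
          group
        have h := D.hom_trivial comm f (fun φ hφ y => by
          show π (φ y) * π (φ y) = π y * π y
          rw [← map_mul, ← map_mul, ← map_mul, hmove φ hφ _ (D.sq_central y)]) x
        have h' : π (x * x) = 1 := by rw [map_mul]; exact h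
        rwa [QuotientGroup.mk'_apply, QuotientGroup.eq_one_iff] at h'
      have hΦ : frattini X ≤ commutator X := MaxClass.mem_frattini_sq D.isTwo _ hsq
      exact fun z hz => hΦ (D.mem_of_fixed (frattini X) Core.commutator_le_frattini
        (D.inv_of_char _ inferInstance) fun φ hφ => by
          rw [hmove φ hφ z hz, inv_mul_cancel]; exact one_mem _)
  exact ⟨D.isTwo, le_antisymm hle (hcen.trans Core.commutator_le_frattini), le_antisymm hle' hcen⟩

include D in
/-- The quadratic functions. -/
theorem deg_two {G : Type*} [Group G] (ι : G →* X) (χ : X → ZMod 2)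
    (hχ : ∀ a ∈ center X, ∀ c ∈ center X, χ (a * c) = χ a + χ c) :
    Deg 2 fun g => χ (ι g * ι g) + 1 := by
  intro h k g
  have e : ∀ a c : X, χ (a * c * (a * c)) = χ (co a c) + (χ (a * a) + χ (c * c)) := fun a c => by
    rw [D.sq_mul', hχ _ (D.co_center a c) _ ((center X).mul_mem (D.sq_central a) (D.sq_central c)),
      hχ _ (D.sq_central a) _ (D.sq_central c)]
  have e2 : ∀ a b c : X, χ (co a (b * c)) = χ (co a b) + χ (co a c) := fun a b c => by
    rw [D.co_mul_right, hχ _ (D.co_center a b) _ (D.co_center a c)]
  have h1 : χ 1 = 0 := by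
    have := hχ 1 (one_mem _) 1 (one_mem _)
    rw [mul_one] at this
    exact left_eq_add.mp this
  have h2 : ∀ a : X, co a 1 = 1 := fun a => by unfold co; group
  simp only [map_mul, e, e2, map_one, mul_one, h2, h1]
  ring_nf
  simp [show (2 : ZMod 2) = 0 from rfl, show (4 : ZMod 2) = 0 from rfl]

include D in
theorem card_eq (x : X) : Nat.card X = (center X).index * Nat.card (center X) :=
  ((center X).index_mul_card).symm

include D in
theorem index_le_sixteen (hna : ¬ IsMulCommutative X) (h4 : Nat.card (center X) = 4) :
    (center X).index ≤ 16 ∧ ∀ u : X, u * u = 1 → u ∈ center X := by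
  classical
  have hexp := D.center_exp_two hna
  have hno : ∀ u : X, u * u = 1 → u ∈ center X := fun u hu =>
    D.no_three (center X) le_rfl hexp h4.ge hu fun y => D.co_center y u
  refine ⟨?_, hno⟩
  obtain ⟨a, ha, c, hc, ha1, hc1, hac⟩ := exists_ne_of_card_four h4
  obtain ⟨-, hall⟩ := eq_of_four hexp h4.le ha hc ha1 hc1 hac
  have hcomm : ∀ {p q : X}, p ∈ center X → q ∈ center X → p * q = q * p :=
    fun hp hq => comm_of_exp_two hexp hp hq
  have n1 : a * c ≠ 1 := fun h => hac (by
    rw [← inv_eq_of_mul_eq_one_right h, inv_eq_of_mul_eq_one_right (hexp a ha)])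
  have n2 : a * c ≠ a := fun h => hc1 (mul_left_cancel (h.trans (mul_one a).symm))
  have n3 : a * c ≠ c := fun h => ha1 (mul_right_cancel (h.trans (one_mul c).symm))
  let χ : X → X → ZMod 2 := fun p u => if u = 1 ∨ u = p then 0 else 1
  have hadd : ∀ p, p = a ∨ p = c → ∀ u ∈ center X, ∀ w ∈ center X, χ p (u * w) = χ p u + χ p w := by
    intro p hp u hu w hw
    have t1 : a * (a * c) = c := by rw [← mul_assoc, hexp a ha, one_mul]
    have t2 : c * (a * c) = a := by rw [hcomm ha hc, ← mul_assoc, hexp c hc, one_mul]
    have t3 : a * c * a = c := by rw [hcomm ha hc, mul_assoc, hexp a ha, mul_one]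
    have t4 : a * c * c = a := by rw [mul_assoc, hexp c hc, mul_one]
    have t5 : c * a = a * c := hcomm hc ha
    have t6 : a * c * (a * c) = 1 := hexp _ (mul_mem ha hc)
    have t7 := hexp a ha
    have t8 := hexp c hc
    have h2 : (1 : ZMod 2) + 1 = 0 := rfl
    rcases hp with rfl | rfl <;> rcases hall u hu with rfl | rfl | rfl | rfl <;>
      rcases hall w hw with rfl | rfl | rfl | rfl <;>
      simp [χ, t1, t2, t3, t4, t5, t6, t7, t8, h2, ha1, hc1, hac, hac.symm, n1, n2, n3, n2.symm, n3.symm]
  refine index_le (center X) D.sq_central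
    (fun g => (χ a (g * g) + 1) * (χ c (g * g) + 1))
    (deg_mul (a := 2) (b := 2) (D.deg_two (MonoidHom.id X) _ (hadd a (Or.inl rfl)))
      (D.deg_two (MonoidHom.id X) _ (hadd c (Or.inr rfl)))) (fun g hg => ?_) fun g hg => ?_
  · simp [χ, hexp g hg]
  · have h2 : (1 : ZMod 2) + 1 = 0 := rfl
    rcases hall _ (D.sq_central g) with h | h | h | h
    · exact absurd (hno g h) hg
    · simp [χ, h, h2, ha1, hac]
    · simp [χ, h, h2, hc1, hac.symm]
    · simp [χ, h, h2, n1, n2, n3]

include D in
theorem index_ne_le_two (hna : ¬ IsMulCommutative X) : 3 ≤ (center X).index := by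
  by_contra h
  have hpos : (center X).index ≠ 0 := Subgroup.index_ne_zero_of_finite
  refine hna ⟨⟨fun a c => ?_⟩⟩
  rcases (show (center X).index = 1 ∨ (center X).index = 2 by omega) with h1 | h2
  · exact mem_center_iff.mp (index_eq_one.mp h1 ▸ mem_top c) a
  · by_cases hc : c ∈ center X
    · exact mem_center_iff.mp hc a
    by_cases ha : a ∈ center X
    · exact (mem_center_iff.mp ha c).symm
    have h3 : a⁻¹ * c ∈ center X :=
      (Subgroup.mul_mem_iff_of_index_two h2).mpr ⟨fun h => absurd (inv_mem_iff.mp h) ha, fun h => absurd h hc⟩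
    have h4 := mem_center_iff.mp h3 a
    rwa [mul_inv_cancel_left, mul_assoc, eq_inv_mul_iff_mul_eq] at h4

theorem card_centralizer_ge [Finite X] {x w : X} (hx : x ∉ center X) (hw : w * x = x * w) :
    2 * Nat.card (center X) ≤ Nat.card (centralizer ({x, w} : Set X)) := by
  have hle : center X ≤ centralizer ({x, w} : Set X) := center_le_centralizer _
  have hxm : x ∈ centralizer ({x, w} : Set X) := by
    rw [mem_centralizer_iff]
    rintro g (rfl | rfl)
    exacts [rfl, hw]
  obtain ⟨k, hk⟩ := card_dvd_of_le hle
  have hlt : Nat.card (center X) < Nat.card (centralizer ({x, w} : Set X)) := by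
    refine lt_of_not_ge fun h => hx ?_
    exact (Subgroup.eq_of_le_of_card_ge hle h).ge hxm
  rw [hk] at hlt ⊢
  have : 2 ≤ k := by
    by_contra h
    interval_cases k <;> omega
  nlinarith

/-- A centralizer that is twice the size of `Z⟨x⟩` is abelian. -/
theorem centralizer_comm [Finite X] {x : X} (hx : x ∉ center X)
    (h : Nat.card (centralizer ({x} : Set X)) = 4 * Nat.card (center X)) :
    ∀ a ∈ centralizer ({x} : Set X), ∀ c ∈ centralizer ({x} : Set X), a * c = c * a := by
  intro a ha c hc
  have hax : a * x = x * a := mem_centralizer_singleton_iff.mp ha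
  by_cases hle : centralizer ({x} : Set X) ≤ centralizer ({x, a} : Set X)
  · exact mem_centralizer_iff.mp (hle hc) a (by simp)
  exfalso
  have h1 : centralizer ({x, a} : Set X) ≤ centralizer ({x} : Set X) := centralizer_le (by simp)
  have h2 : centralizer ({x, a} : Set X) < centralizer ({x} : Set X) :=
    lt_of_le_not_ge h1 hle
  have ha2 : a ∈ centralizer ({x, a} : Set X) := by
    rw [mem_centralizer_iff]
    rintro g (rfl | rfl)
    exacts [hax.symm, rfl]
  obtain ⟨k, hk⟩ := card_dvd_of_le (center_le_centralizer ({x, a} : Set X))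
  have h3 := card_centralizer_ge hx hax
  have h4 : Nat.card (centralizer ({x, a} : Set X)) = 2 * Nat.card (center X) := by
    obtain ⟨l, hl⟩ := card_dvd_of_le h1
    have hpos : 0 < Nat.card (center X) := Nat.card_pos
    have hlt : Nat.card (centralizer ({x, a} : Set X)) < Nat.card (centralizer ({x} : Set X)) :=
      lt_of_not_ge fun hge => h2.ne (Subgroup.eq_of_le_of_card_ge h1 hge)
    rw [h, hk] at hl hlt
    rw [hk] at h3 ⊢
    have : k ∣ 4 := ⟨l, Nat.eq_of_mul_eq_mul_left hpos (by rw [← mul_assoc, ← hl, mul_comm])⟩
    have hk3 : k < 4 := by nlinarith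
    have hk2 : 2 ≤ k := by nlinarith
    interval_cases k <;> omega
  -- the two-element centralizer is `Z ∪ xZ`
  have h5 : ∀ g ∈ centralizer ({x, a} : Set X), g ∈ center X ∨ x⁻¹ * g ∈ center X := by
    intro g hg
    have hidx : ((center X).subgroupOf (centralizer ({x, a} : Set X))).index = 2 := by
      have := ((center X).subgroupOf (centralizer ({x, a} : Set X))).index_mul_card
      rw [Nat.card_congr (Subgroup.subgroupOfEquivOfLe (center_le_centralizer _)).toEquiv, h4] at this
      exact Nat.eq_of_mul_eq_mul_right Nat.card_pos this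
    by_cases hgc : g ∈ center X
    · exact Or.inl hgc
    have hxm : x ∈ centralizer ({x, a} : Set X) := by
      rw [mem_centralizer_iff]
      rintro g (rfl | rfl)
      exacts [rfl, hax]
    refine Or.inr ((Subgroup.mul_mem_iff_of_index_two hidx
      (a := ⟨x⁻¹, inv_mem hxm⟩) (b := ⟨g, hg⟩)).mpr ⟨fun hh => ?_, fun hh => absurd hh hgc⟩)
    exact absurd (inv_mem_iff.mp (show x⁻¹ ∈ center X from hh)) hx
  refine hle fun g hg => ?_
  rw [mem_centralizer_iff]
  rintro s (rfl | rfl)
  · exact (mem_centralizer_singleton_iff.mp hg).symm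
  · rcases h5 s ha2 with h | h
    · exact (mem_center_iff.mp h g).symm
    · have e : s = x * (x⁻¹ * s) := by group
      rw [e]
      exact (Commute.mul_left (show Commute x g from (mem_centralizer_singleton_iff.mp hg).symm)
        (show Commute (x⁻¹ * s) g from (mem_center_iff.mp h g).symm)).eq

include D in
theorem index_eq_sixteen (hna : ¬ IsMulCommutative X) (h4 : Nat.card (center X) = 4) :
    (center X).index = 16 := by
  classical
  have : Fact (Nat.Prime 2) := ⟨Nat.prime_two⟩
  have hexp := D.center_exp_two hna
  obtain ⟨hle, -⟩ := D.index_le_sixteen hna h4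
  have h3 := D.index_ne_le_two hna
  obtain ⟨n, hn⟩ : ∃ n, (center X).index = 2 ^ n := D.isTwo.index (center X)
  rw [hn] at hle h3 ⊢
  have hn4 : n ≤ 4 := (Nat.pow_le_pow_iff_right (le_refl 2)).mp (show 2 ^ n ≤ 2 ^ 4 from hle)
  have hX : Nat.card X = 2 ^ n * 4 := by rw [← hn, ← h4]; exact ((center X).index_mul_card).symm
  interval_cases n
  all_goals try norm_num at h3
  · -- index four: the derived subgroup would be cyclic
    exfalso
    obtain ⟨x, hx⟩ : ∃ x, x ∉ center X := by
      by_contra h
      push Not at h
      exact hna ⟨⟨fun a c => mem_center_iff.mp (h c) a⟩⟩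
    have hC : (centralizer ({x} : Set X)).index = 2 := by
      have h1 := (centralizer ({x} : Set X)).index_mul_card
      have h2 : 2 * Nat.card (center X) ≤ Nat.card (centralizer ({x} : Set X)) := by
        have := card_centralizer_ge (w := x) hx rfl
        rwa [Set.pair_eq_singleton] at this
      have h5 : (centralizer ({x} : Set X)).index ≠ 1 := fun h => hx (mem_center_iff.mpr fun g =>
        mem_centralizer_singleton_iff.mp (index_eq_one.mp h ▸ mem_top g))
      rw [h4] at h2
      rw [hX] at h1
      norm_num at h1
      have hne : (centralizer ({x} : Set X)).index ≠ 0 := Subgroup.index_ne_zero_of_finite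
      by_contra h
      have : 3 ≤ (centralizer ({x} : Set X)).index := by omega
      nlinarith
    obtain ⟨y, hy⟩ : ∃ y, y ∉ centralizer ({x} : Set X) := by
      by_contra h
      push Not at h
      exact hx (mem_center_iff.mpr fun g => mem_centralizer_singleton_iff.mp (h g))
    have hmem : ∀ g ∈ centralizer ({x} : Set X), g ∈ center X ∨ x⁻¹ * g ∈ center X := by
      intro g hg
      have hidx : ((center X).subgroupOf (centralizer ({x} : Set X))).index = 2 := by
        have h1 := ((center X).subgroupOf (centralizer ({x} : Set X))).index_mul_card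
        rw [Nat.card_congr (Subgroup.subgroupOfEquivOfLe (center_le_centralizer _)).toEquiv, h4] at h1
        have h2 := (centralizer ({x} : Set X)).index_mul_card
        rw [hC, hX] at h2
        norm_num at h2
        omega
      by_cases hgc : g ∈ center X
      · exact Or.inl hgc
      have hxm : x ∈ centralizer ({x} : Set X) := mem_centralizer_singleton_iff.mpr rfl
      refine Or.inr ((Subgroup.mul_mem_iff_of_index_two hidx
        (a := ⟨x⁻¹, inv_mem hxm⟩) (b := ⟨g, hg⟩)).mpr ⟨fun hh => ?_, fun hh => absurd hh hgc⟩)
      exact absurd (inv_mem_iff.mp (show x⁻¹ ∈ center X from hh)) hx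
    have hz : ∀ {g : X}, g ∈ center X → ∀ w, co g w = 1 ∧ co w g = 1 := fun {g} hg w =>
      ⟨co_eq_one.mpr (mem_center_iff.mp hg w).symm, co_eq_one.mpr (mem_center_iff.mp hg w)⟩
    have kx : co x x = 1 := co_eq_one.mpr rfl
    have ky : co y y = 1 := co_eq_one.mpr rfl
    have hshape : ∀ g : X, ∃ z ∈ center X, g = z ∨ g = x * z ∨ g = y * z ∨ g = y * (x * z) := by
      intro g
      by_cases hg : g ∈ centralizer ({x} : Set X)
      · rcases hmem g hg with h | h
        · exact ⟨g, h, Or.inl rfl⟩
        · exact ⟨_, h, Or.inr (Or.inl (mul_inv_cancel_left x g).symm)⟩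
      · have h1 : y⁻¹ * g ∈ centralizer ({x} : Set X) :=
          (Subgroup.mul_mem_iff_of_index_two hC).mpr
            ⟨fun h => absurd (inv_mem_iff.mp h) hy, fun h => absurd h hg⟩
        rcases hmem _ h1 with h | h
        · exact ⟨_, h, Or.inr (Or.inr (Or.inl (mul_inv_cancel_left y g).symm))⟩
        · exact ⟨_, h, Or.inr (Or.inr (Or.inr (by group)))⟩
    have hcm : commutator X ≤ zpowers (co x y) := by
      rw [_root_.commutator_def, commutator_le]
      intro g _ g' _
      show co g g' ∈ _
      obtain ⟨u, hu, hg⟩ := hshape g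
      obtain ⟨u', hu', hg'⟩ := hshape g'
      rcases hg with rfl | rfl | rfl | rfl <;> rcases hg' with rfl | rfl | rfl | rfl <;>
        simp [D.co_mul_left, D.co_mul_right, (hz hu _).1, (hz hu' _).2, kx, ky, D.co_symm x y, D.co_sq]
    have h5 := Subgroup.card_le_of_le hcm
    rw [(D.isSpecial hna).2.2, h4, Nat.card_zpowers] at h5
    have h6 : orderOf (co x y) ≤ 2 :=
      Nat.le_of_dvd (by norm_num) (orderOf_dvd_of_pow_eq_one (by rw [pow_two]; exact D.co_sq x y))
    omega
  · -- index eight: a unique abelian subgroup of index two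
    exfalso
    simp only [Nat.reducePow, Nat.reduceMul] at hX
    have hsmall : ∀ {u : X}, u ∉ center X → Nat.card (centralizer ({u} : Set X)) ≠ 32 := by
      intro u hu h
      exact hu (mem_center_iff.mpr fun g => mem_centralizer_singleton_iff.mp
        (Subgroup.eq_top_of_card_eq _ (h.trans hX.symm) ▸ mem_top g))
    obtain ⟨x, hx, hCx⟩ : ∃ x, x ∉ center X ∧ Nat.card (centralizer ({x} : Set X)) = 16 := by
      by_contra hno
      push Not at hno
      have hC8 : ∀ u : X, u ∉ center X → Nat.card (centralizer ({u} : Set X)) = 8 := by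
        intro u hu
        have h1 := hno u hu
        have h2 := hsmall hu
        have h5 := card_centralizer_ge (w := u) hu rfl
        rw [Set.pair_eq_singleton, h4] at h5
        have hd := Subgroup.card_subgroup_dvd_card (centralizer ({u} : Set X))
        rw [hX, show (32 : ℕ) = 2 ^ 5 from rfl, Nat.dvd_prime_pow Nat.prime_two] at hd
        obtain ⟨j, hj, e⟩ := hd
        rw [e] at h1 h2 h5 ⊢
        interval_cases j <;> omega
      have hpair : ∀ u v : X, u ∉ center X → co u v = 1 → ∀ w, co w v = 1 ∨ co w v = co w u := by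
        intro u v hu huv w
        have hidx : ((center X).subgroupOf (centralizer ({u} : Set X))).index = 2 := by
          have h1 := ((center X).subgroupOf (centralizer ({u} : Set X))).index_mul_card
          rw [Nat.card_congr (Subgroup.subgroupOfEquivOfLe (center_le_centralizer _)).toEquiv, h4,
            hC8 u hu] at h1
          omega
        by_cases hv : v ∈ center X
        · exact Or.inl (co_eq_one.mpr (mem_center_iff.mp hv w))
        have hum : u ∈ centralizer ({u} : Set X) := mem_centralizer_singleton_iff.mpr rfl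
        have hvm : v ∈ centralizer ({u} : Set X) :=
          mem_centralizer_singleton_iff.mpr (co_eq_one.mp huv).symm
        have hm : u⁻¹ * v ∈ center X := (Subgroup.mul_mem_iff_of_index_two hidx
            (a := ⟨u⁻¹, inv_mem hum⟩) (b := ⟨v, hvm⟩)).mpr
          ⟨fun hh => absurd (inv_mem_iff.mp (show u⁻¹ ∈ center X from hh)) hu, fun hh => absurd hh hv⟩
        right
        calc co w v = co w (u * (u⁻¹ * v)) := by rw [mul_inv_cancel_left]
          _ = co w u := by rw [D.co_mul_right, co_eq_one.mpr (mem_center_iff.mp hm w), mul_one]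
      obtain ⟨x, hx⟩ : ∃ x, x ∉ center X := by
        by_contra h
        push Not at h
        exact hna ⟨⟨fun a c => mem_center_iff.mp (h c) a⟩⟩
      have hcoU : ∀ v, co x v ∈ center X := D.co_center x
      let f : X →* center X := MonoidHom.mk' (fun v => ⟨co x v, hcoU v⟩)
        fun v w => Subtype.ext (D.co_mul_right x v w)
      have hker : f.ker = centralizer ({x} : Set X) := by
        ext v
        rw [MonoidHom.mem_ker, mem_centralizer_singleton_iff]
        exact ⟨fun h => (co_eq_one.mp (congrArg Subtype.val h)).symm,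
          fun h => Subtype.ext (co_eq_one.mpr h.symm)⟩
      have hrange : f.range = ⊤ := by
        refine Subgroup.eq_top_of_card_eq _ ?_
        have h1 := f.ker.index_mul_card
        rw [Subgroup.index_ker, hker, hC8 x hx, hX] at h1
        omega
      obtain ⟨a, ha, c, hc, ha1, hc1, hac⟩ := exists_ne_of_card_four h4
      obtain ⟨-, hall⟩ := eq_of_four hexp h4.le ha hc ha1 hc1 hac
      obtain ⟨y, hy⟩ : ∃ y, co x y = a := by
        obtain ⟨y, hy⟩ := (hrange.symm ▸ mem_top (⟨a, ha⟩ : center X) : _ ∈ f.range)
        exact ⟨y, congrArg Subtype.val hy⟩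
      obtain ⟨w, hw⟩ : ∃ w, co x w = c := by
        obtain ⟨y, hy⟩ := (hrange.symm ▸ mem_top (⟨c, hc⟩ : center X) : _ ∈ f.range)
        exact ⟨y, congrArg Subtype.val hy⟩
      have kx : co x x = 1 := co_eq_one.mpr rfl
      have notc : ∀ {u : X}, co x u ≠ 1 → u ∉ center X := fun {u} h hu =>
        h (co_eq_one.mpr (mem_center_iff.mp hu x))
      have finish : ∀ u v : X, co u v = 1 → co x u ≠ 1 → co x v ≠ 1 → co x v ≠ co x u → False :=
        fun u v h h1 h2 h3 => (hpair u v (notc h1) h x).elim h2 h3
      rcases hall _ (D.co_center y w) with h | h | h | h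
      · exact finish y w h (hy ▸ ha1) (hw ▸ hc1) (by rw [hy, hw]; exact hac.symm)
      · exact finish y (x * w) (by rw [D.co_mul_right, D.co_symm x y, hy, h, hexp a ha])
          (hy ▸ ha1) (by rw [D.co_mul_right, kx, one_mul, hw]; exact hc1)
          (by rw [D.co_mul_right, kx, one_mul, hw, hy]; exact hac.symm)
      · exact finish w (x * y) (by rw [D.co_mul_right, D.co_symm x w, hw, D.co_symm y w, h, hexp c hc])
          (hw ▸ hc1) (by rw [D.co_mul_right, kx, one_mul, hy]; exact ha1)
          (by rw [D.co_mul_right, kx, one_mul, hw, hy]; exact hac)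
      · refine finish (x * y) (x * w) ?_ (by rw [D.co_mul_right, kx, one_mul, hy]; exact ha1)
          (by rw [D.co_mul_right, kx, one_mul, hw]; exact hc1)
          (by rw [D.co_mul_right, D.co_mul_right, kx, one_mul, one_mul, hw, hy]; exact hac.symm)
        rw [D.co_mul_left, D.co_mul_right, D.co_mul_right, kx, one_mul, hw, D.co_symm x y, hy, h,
          ← mul_assoc a a, hexp a ha, one_mul, hexp c hc]
    obtain ⟨P, hP⟩ : ∃ P, P = centralizer ({x} : Set X) := ⟨_, rfl⟩
    have hPc : ∀ a ∈ P, ∀ c ∈ P, a * c = c * a := hP ▸ centralizer_comm hx (by rw [hCx, h4])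
    rw [← hP] at hCx
    have huniq : ∀ P' : Subgroup X, Nat.card P' = 16 → (∀ a ∈ P', ∀ c ∈ P', a * c = c * a) → P' = P := by
      intro P' h16 hc'
      by_contra hne
      have hi : P.index = 2 := by
        have := P.index_mul_card; rw [hCx, hX] at this; omega
      have hi' : P'.index = 2 := by
        have := P'.index_mul_card; rw [h16, hX] at this; omega
      have hsup : P ⊔ P' = ⊤ := by
        have hlt : P < P ⊔ P' := lt_of_le_of_ne le_sup_left fun e =>
          hne (Subgroup.eq_of_le_of_card_ge (e ▸ le_sup_right) (by rw [hCx, h16]))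
        have hd := Subgroup.relIndex_mul_index (le_sup_left : P ≤ P ⊔ P')
        rw [hi] at hd
        rcases (Nat.dvd_prime Nat.prime_two).mp (Dvd.intro_left _ hd) with e | e
        · exact index_eq_one.mp e
        · rw [e] at hd
          exact absurd (Subgroup.relIndex_eq_one.mp (by omega)) hlt.not_ge
      have hcz : P ⊓ P' ≤ center X := by
        intro g hg
        rw [mem_center_iff]
        intro w
        have hh : P ⊔ P' ≤ centralizer ({g} : Set X) := sup_le
          (fun v hv => mem_centralizer_singleton_iff.mpr (hPc v hv g hg.1))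
          (fun v hv => mem_centralizer_singleton_iff.mpr (hc' v hv g hg.2))
        exact mem_centralizer_singleton_iff.mp (hh (hsup ▸ mem_top w))
      have h1 := Subgroup.card_le_of_le hcz
      have h2 := Subgroup.index_inf_le (H := P) (K := P')
      rw [hi, hi'] at h2
      have h3 := (P ⊓ P').index_mul_card
      rw [hX] at h3
      rw [h4] at h1
      nlinarith
    have hPi : D.Inv P := by
      intro φ hφ g hg
      have he : P.map φ.toMonoidHom = P := huniq _
        (by rw [Subgroup.card_map_of_injective φ.injective, hCx]) (by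
          rintro _ ⟨a, ha, rfl⟩ _ ⟨c, hc, rfl⟩
          rw [← map_mul, ← map_mul, hPc a ha c hc])
      exact he ▸ mem_map_of_mem φ.toMonoidHom hg
    have hi : P.index = 2 := by
      have := P.index_mul_card; rw [hCx, hX] at this; omega
    have hZP : center X ≤ P := hP ▸ center_le_centralizer _
    have : P.Normal := Subgroup.normal_of_index_eq_two hi
    have hall : ∀ g, g ∈ P := fun g => D.mem_of_fixed P
      ((D.isSpecial hna).2.2.le.trans hZP) hPi fun φ hφ =>
        (Subgroup.mul_mem_iff_of_index_two hi).mpr (by
          rw [inv_mem_iff]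
          refine ⟨hPi φ hφ g, fun h => ?_⟩
          have := hPi φ⁻¹ (D.A.inv_mem hφ) _ h
          rwa [MulAut.inv_apply, MulEquiv.symm_apply_apply] at this)
    rw [index_eq_one.mpr (eq_top_iff.mpr fun g _ => hall g)] at hi
    omega
  · norm_num

include D in
/-- The conclusion. -/
theorem classification (hna : ¬ IsMulCommutative X) :
    Nonempty (X ≃* QuaternionGroup 2) ∨
      (Cfsg.IsSpecial 2 X ∧ Nat.card X = 64 ∧ Nat.card {x : X // orderOf x = 2} = 3 ∧
        ∀ x : X, orderOf x = 2 → x ∈ center X) ∨
      (Cfsg.IsExtraspecial 2 X ∧ Nat.card X = 32 ∧ Nat.card {x : X // orderOf x = 2} = 11) := by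
  classical
  have : Fact (Nat.Prime 2) := ⟨Nat.prime_two⟩
  have : Fintype X := Fintype.ofFinite _
  have hexp := D.center_exp_two hna
  have hsp := D.isSpecial hna
  have hord : ∀ g : X, orderOf g = 2 ↔ g * g = 1 ∧ g ≠ 1 := fun g => by
    rw [orderOf_eq_prime_iff, pow_two]
  rcases D.center_card hna with h2 | h4
  swap
  · -- the special group of order 64
    obtain ⟨-, hno⟩ := D.index_le_sixteen hna h4
    refine Or.inr (Or.inl ⟨hsp, ?_, ?_, fun g hg => hno g ((hord g).mp hg).1⟩)
    · rw [← (center X).index_mul_card, h4, D.index_eq_sixteen hna h4]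
    · have e : Nat.card {x : X // orderOf x = 2} = Nat.card {z : center X // z ≠ 1} :=
        Nat.card_congr ⟨fun g => ⟨⟨g, hno g ((hord g).mp g.2).1⟩,
          fun h => ((hord g).mp g.2).2 (congrArg Subtype.val h)⟩,
          fun z => ⟨z.1, (hord _).mpr ⟨hexp _ z.1.2, fun h => z.2 (Subtype.ext h)⟩⟩,
          fun _ => rfl, fun _ => rfl⟩
      rw [e, Nat.card_eq_fintype_card, Fintype.card_subtype_compl, Fintype.card_subtype_eq,
        ← Nat.card_eq_fintype_card, h4]
  -- the centre has order two
  obtain ⟨n, hn⟩ : ∃ n, (center X).index = 2 ^ n := D.isTwo.index (center X)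
  have hX : Nat.card X = 2 ^ n * 2 := by rw [← hn, ← h2]; exact ((center X).index_mul_card).symm
  have hidx := D.index_ne_le_two hna
  obtain ⟨z, hz, hz1⟩ : ∃ z ∈ center X, z ≠ 1 := by
    have : Nontrivial (center X) := Finite.one_lt_card_iff_nontrivial.mp (by omega)
    obtain ⟨z, hz⟩ := exists_ne (1 : center X)
    exact ⟨z, z.2, fun h => hz (Subtype.ext h)⟩
  have hZ : ∀ w ∈ center X, w = 1 ∨ w = z := by
    intro w hw
    have h := (Nat.card_eq_two_iff' (1 : center X)).mp h2
    obtain ⟨t, ht, hu⟩ := h
    by_cases hw1 : w = 1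
    · exact Or.inl hw1
    · exact Or.inr (congrArg Subtype.val ((hu ⟨w, hw⟩ fun e => hw1 (congrArg Subtype.val e)).trans
        (hu ⟨z, hz⟩ fun e => hz1 (congrArg Subtype.val e)).symm))
  let χ : X → ZMod 2 := fun u => if u = 1 then 0 else 1
  have hadd : ∀ a ∈ center X, ∀ c ∈ center X, χ (a * c) = χ a + χ c := by
    intro a ha c hc
    have h11 : (1 : ZMod 2) + 1 = 0 := rfl
    rcases hZ a ha with rfl | rfl <;> rcases hZ c hc with rfl | rfl <;> simp [χ, hz1, h11, hexp _ hz]
  have hχ : ∀ a, a ≠ 1 → χ a + 1 = 0 := fun a ha => by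
    simp only [χ, if_neg ha]; rfl
  by_cases hinv : ∀ g : X, g * g = 1 → g ∈ center X
  · -- no involution outside the centre: the quaternion group
    have hle := index_le (center X) D.sq_central (fun g => χ (g * g) + 1) (D.deg_two (MonoidHom.id X) χ hadd)
      (fun g hg => by simp [χ, hexp g hg]) (fun g hg => hχ _ fun h => hg (hinv g h))
    refine Or.inl ?_
    rcases Fusion.cyclic_or_quaternion D.isTwo (fun u v hu hv => by
      rw [hord] at hu hv
      rcases hZ u (hinv u hu.1) with e | e
      · exact absurd e hu.2
      rcases hZ v (hinv v hv.1) with e' | e'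
      · exact absurd e' hv.2
      rw [e, e']) with hc | ⟨k, hk, ⟨e⟩⟩
    · exact absurd (IsCyclic.isMulCommutative (α := X)) hna
    · have hk1 : 2 ^ k = 2 := by
        have hcard := Nat.card_congr e.toEquiv
        have : NeZero (2 ^ k) := ⟨by positivity⟩
        rw [hX, Nat.card_eq_fintype_card, QuaternionGroup.card, ← hn] at hcard
        have hge : 2 ≤ 2 ^ k := le_self_pow₀ (by norm_num) (by omega)
        rw [hn] at hle hidx hcard
        omega
      exact ⟨hk1 ▸ e⟩
  -- an involution outside the centre
  push Not at hinv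
  obtain ⟨x, hxx, hxc⟩ := hinv
  have hxz : x ≠ z := fun e => hxc (e ▸ hz)
  obtain ⟨y, hy⟩ : ∃ y, co x y ≠ 1 := by
    by_contra h
    push Not at h
    exact hxc (mem_center_iff.mpr fun g => (co_eq_one.mp (h g)).symm)
  have hcv : ∀ g, co x g = 1 ∨ co x g = z := fun g => hZ _ (D.co_center x g)
  have hC2 : (centralizer ({x} : Set X)).index = 2 := by
    refine Subgroup.index_eq_two_iff.mpr ⟨y, fun g => ?_⟩
    have e : co x (g * y) = co x g * z := by
      rw [D.co_mul_right]; rw [(hcv y).resolve_left hy]
    have hiff : ∀ w, w ∈ centralizer ({x} : Set X) ↔ co x w = 1 := fun w => by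
      rw [mem_centralizer_singleton_iff, co_eq_one]; exact eq_comm
    rw [hiff, hiff, e]
    rcases hcv g with h | h <;> rw [h]
    · rw [one_mul]; exact Or.inr ⟨rfl, hz1⟩
    · exact Or.inl ⟨hexp z hz, hz1⟩
  -- the four-group `Z⟨x⟩`
  have hxc' : ∀ w ∈ center X, x * w = w * x := fun w hw => mem_center_iff.mp hw x
  let N : Subgroup X :=
    { carrier := {g | g ∈ center X ∨ g * x ∈ center X}
      mul_mem' := fun {g h} hg hh => by
        rcases hg with hg | hg <;> rcases hh with hh | hh
        · exact Or.inl (mul_mem hg hh)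
        · exact Or.inr (by rw [mul_assoc]; exact mul_mem hg hh)
        · refine Or.inr ?_
          rw [mul_assoc g, ← hxc' h hh, ← mul_assoc]
          exact mul_mem hg hh
        · refine Or.inl ?_
          have e : g * h = (g * x) * (h * x) := by
            calc g * h = g * x * (x * (h * x)) * x := by
                  rw [show g * x * (x * (h * x)) * x = g * (x * x) * h * (x * x) by group, hxx, mul_one, mul_one]
              _ = g * x * ((h * x) * x) * x := by rw [hxc' _ hh]
              _ = g * x * (h * x) * (x * x) := by group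
              _ = g * x * (h * x) := by rw [hxx, mul_one]
          rw [e]
          exact mul_mem hg hh
      one_mem' := Or.inl (one_mem _)
      inv_mem' := fun {g} hg => by
        rcases hg with hg | hg
        · exact Or.inl (inv_mem hg)
        · refine Or.inr ?_
          have := inv_mem hg
          have e : g⁻¹ * x = x * (g * x)⁻¹ * x := by group
          rw [e, hxc' _ this, mul_assoc, hxx, mul_one]
          exact this }
  have hxN : x ∈ N := Or.inr (by rw [hxx]; exact one_mem _)
  have hNmem : ∀ g, g ∈ N ↔ g = 1 ∨ g = z ∨ g = x ∨ g = z * x := by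
    intro g
    constructor
    · rintro (h | h)
      · rcases hZ g h with e | e
        exacts [Or.inl e, Or.inr (Or.inl e)]
      · rcases hZ _ h with e | e
        · right; right; left
          rw [eq_inv_of_mul_eq_one_left e, inv_eq_of_mul_eq_one_right hxx]
        · right; right; right
          rw [← e, mul_assoc, hxx, mul_one]
    · rintro (rfl | rfl | rfl | rfl)
      exacts [one_mem _, Or.inl hz, hxN, N.mul_mem (Or.inl hz) hxN]
  have hNexp : ∀ g ∈ N, g * g = 1 := by
    intro g hg
    rcases (hNmem g).mp hg with rfl | rfl | rfl | rfl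
    · exact mul_one 1
    · exact hexp _ hz
    · exact hxx
    · rw [D.sq_mul', hexp z hz, hxx, co_eq_one.mpr (hxc' z hz).symm]; simp
  have hNn : N.Normal := ⟨fun g hg w => by
    have e : w * g * w⁻¹ = co w g * g := by unfold co; group
    rw [e]
    exact N.mul_mem (Or.inl (D.co_center w g)) hg⟩
  have hN4 : Nat.card N = 4 := by
    have hz' : z * x ≠ 1 ∧ z * x ≠ z ∧ z * x ≠ x ∧ x ≠ 1 :=
      ⟨fun h => hxz (by rw [← inv_eq_of_mul_eq_one_right h, inv_eq_of_mul_eq_one_right (hexp z hz)]),
        fun h => hxc (mul_left_cancel (h.trans (mul_one z).symm) ▸ one_mem _),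
        fun h => hz1 (mul_right_cancel (h.trans (one_mul x).symm)), fun h => hxc (h ▸ one_mem _)⟩
    calc Nat.card N = Nat.card ↥(N : Set X) := rfl
      _ = Nat.card ↥(↑({1, z, x, z * x} : Finset X) : Set X) := by
          congr 2; ext g; simpa using hNmem g
      _ = 4 := by
          simp only [Finset.coe_sort_coe, Nat.card_eq_fintype_card, Fintype.card_coe]
          simp [hz1.symm, hz'.2.2.2.symm, hz'.1.symm, hxz.symm, hz'.2.1.symm, hz'.2.2.1.symm]
  have hinside : ∀ g, g * x = x * g → g * g = 1 → g ∈ N := by
    intro g hgx hgg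
    refine D.no_eight N hNn hNexp hN4.ge hgg (fun v hv => ?_) (fun w => Or.inl (D.co_center w g))
    rcases (hNmem v).mp hv with rfl | rfl | rfl | rfl
    · simp
    · exact mem_center_iff.mp hz g
    · exact hgx
    · exact (Commute.mul_right (show Commute g z from mem_center_iff.mp hz g) hgx).eq
  have hNC : N ≤ centralizer ({x} : Set X) := fun g hg => mem_centralizer_singleton_iff.mpr (by
    rcases (hNmem g).mp hg with rfl | rfl | rfl | rfl
    · simp
    · exact (mem_center_iff.mp hz x).symm
    · rfl
    · rw [mul_assoc, hxx, mul_one, ← hxc' z hz, ← mul_assoc, hxx, one_mul])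
  have hCle : Nat.card (centralizer ({x} : Set X)) ≤ 16 := by
    have hidx := index_le (N.subgroupOf (centralizer ({x} : Set X)))
      (fun g => mem_subgroupOf.mpr (Or.inl (D.sq_central _)))
      (fun g => χ ((g : X) * g) + 1) (D.deg_two (centralizer ({x} : Set X)).subtype χ hadd)
      (fun g hg => by simp [χ, hNexp _ (mem_subgroupOf.mp hg)])
      (fun g hg => hχ _ fun h => hg (mem_subgroupOf.mpr
        (hinside _ (mem_centralizer_singleton_iff.mp g.2) h)))
    have h1 := (N.subgroupOf (centralizer ({x} : Set X))).index_mul_card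
    rw [Nat.card_congr (Subgroup.subgroupOfEquivOfLe hNC).toEquiv, hN4] at h1
    omega
  have hCX : Nat.card (centralizer ({x} : Set X)) * 2 = Nat.card X := by
    rw [← (centralizer ({x} : Set X)).index_mul_card, hC2, mul_comm]
  rw [hn] at hidx
  have hn5 : n ≤ 4 := by
    by_contra h
    have : 2 ^ 5 ≤ 2 ^ n := Nat.pow_le_pow_right (by norm_num) (by omega)
    omega
  interval_cases n
  all_goals try norm_num at hidx
  · -- order eight: impossible
    exfalso
    simp only [Nat.reducePow, Nat.reduceMul] at hX
    have hC : ∀ g, g * x = x * g → g ∈ N := by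
      have h4 : Nat.card (centralizer ({x} : Set X)) = 4 := by omega
      intro g hg
      rw [Subgroup.eq_of_le_of_card_ge hNC (by omega)]
      exact mem_centralizer_singleton_iff.mpr hg
    have hNi : N.index = 2 := by
      have := N.index_mul_card; rw [hN4, hX] at this; omega
    obtain ⟨φ, hφ, hne⟩ : ∃ φ ∈ D.A, φ x ∉ N := by
      by_contra hall
      push Not at hall
      have hNi' : D.Inv N := by
        intro φ hφ g hg
        rcases (hNmem g).mp hg with rfl | rfl | rfl | rfl
        · rw [map_one]; exact N.one_mem
        · exact Or.inl (D.inv_center φ hφ _ hz)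
        · exact hall φ hφ
        · rw [map_mul]; exact N.mul_mem (Or.inl (D.inv_center φ hφ _ hz)) (hall φ hφ)
      have hle : commutator X ≤ N := fun g hg => Or.inl (hsp.2.2 ▸ hg)
      have htop : ∀ g, g ∈ N := fun g => D.mem_of_fixed N hle hNi' fun φ hφ =>
        (Subgroup.mul_mem_iff_of_index_two hNi).mpr (by
          rw [inv_mem_iff]
          refine ⟨hNi' φ hφ g, fun h => ?_⟩
          have := hNi' φ⁻¹ (D.A.inv_mem hφ) _ h
          rwa [MulAut.inv_apply, MulEquiv.symm_apply_apply] at this)
      rw [index_eq_one.mpr (eq_top_iff.mpr fun g _ => htop g)] at hNi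
      omega
    have hyy : φ x * φ x = 1 := by rw [← map_mul, hxx, map_one]
    have hy2 : φ (φ x) * φ (φ x) = 1 := by rw [← map_mul, hyy, map_one]
    have hcxy : co x (φ x) = z := (hcv _).resolve_left fun h => hne (hC _ (co_eq_one.mp h).symm)
    have hyz : ∀ w ∈ center X, φ x * w ∉ N := fun w hw h => hne (by
      have := N.mul_mem h (Or.inl (inv_mem hw)); rwa [mul_inv_cancel_right] at this)
    by_cases hm : φ (φ x) ∈ N
    · rcases (hNmem _).mp hm with e | e | e | e
      · exact hne (by rw [φ.injective (e.trans (map_one φ).symm)]; exact N.one_mem)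
      · have := D.inv_center φ⁻¹ (D.A.inv_mem hφ) z hz
        rw [← e, MulAut.inv_apply, MulEquiv.symm_apply_apply] at this
        exact hne (Or.inl this)
      · exact hne (by rw [D.eq_of_fix_sq hφ e]; exact hxN)
      · -- the square maps `x` to the other involution of its coset
        obtain ⟨m, hm⟩ := D.odd
        have hφz : φ z = z := by
          rcases hZ _ (D.inv_center φ hφ z hz) with e' | e'
          · exact absurd (φ.injective (e'.trans (map_one φ).symm)) hz1
          · exact e'
        have h1 : φ ^ (2 * m + 1) = 1 := by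
          rw [← hm]
          exact congrArg Subtype.val (pow_card_eq_one' (G := D.A) (x := ⟨φ, hφ⟩))
        have hev : ∀ j, (φ ^ (2 * j)) x ∈ N := by
          intro j
          induction j with
          | zero => simpa using hxN
          | succ j ih =>
            rw [show 2 * (j + 1) = 1 + 1 + 2 * j by ring, pow_add, pow_add, pow_one, MulAut.mul_apply,
              MulAut.mul_apply]
            rcases (hNmem _).mp ih with h | h | h | h <;> rw [h]
            · rw [map_one, map_one]; exact N.one_mem
            · rw [hφz, hφz]; exact Or.inl hz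
            · rw [e]; exact N.mul_mem (Or.inl hz) hxN
            · rw [map_mul, map_mul, hφz, hφz, e]; exact N.mul_mem (Or.inl hz) (N.mul_mem (Or.inl hz) hxN)
        have h3 := hev (m + 1)
        rw [show 2 * (m + 1) = 2 * m + 1 + 1 by ring, pow_succ', h1, mul_one] at h3
        exact hne h3
    · have hm' : (φ x)⁻¹ * φ (φ x) ∈ N := (Subgroup.mul_mem_iff_of_index_two hNi).mpr
        ⟨fun h => absurd (inv_mem_iff.mp h) hne, fun h => absurd h hm⟩
      obtain ⟨v, hv⟩ : ∃ v, v = (φ x)⁻¹ * φ (φ x) := ⟨_, rfl⟩
      have ev : φ (φ x) = φ x * v := by rw [hv, mul_inv_cancel_left]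
      rw [← hv] at hm'
      rcases hm' with h | h
      · have e2 : φ ((φ x)⁻¹ * φ x) = 1 := by simp
        have hback : φ x⁻¹ * φ (φ x) ∈ center X := by rw [map_inv, ← hv]; exact h
        have := D.inv_center φ⁻¹ (D.A.inv_mem hφ) _ hback
        rw [← map_mul, MulAut.inv_apply, MulEquiv.symm_apply_apply] at this
        exact hne (by
          have h5 := N.mul_mem hxN (Or.inl this : x⁻¹ * φ x ∈ N)
          rwa [mul_inv_cancel_left] at h5)
      · have ev2 : φ (φ x) = φ x * x * (v * x) := by
          rw [ev]
          calc φ x * v = φ x * (x * x) * v := by rw [hxx, mul_one]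
            _ = φ x * x * (x * v) := by group
            _ = φ x * x * (v * x) := by
              have hvc : v * x * x = x * (v * x) := (mem_center_iff.mp h x).symm
              rw [mul_assoc v x x, hxx, mul_one] at hvc
              conv_lhs => rw [hvc]
              rw [← mul_assoc x x, hxx, one_mul]
        rw [ev2, D.sq_mul', hexp _ h, D.sq_mul', hyy, hxx, D.co_symm x (φ x), hcxy,
          co_eq_one.mpr (mem_center_iff.mp h (φ x * x))] at hy2
        simp only [one_mul, mul_one] at hy2
        exact hz1 hy2
  · -- order sixteen: impossible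
    exfalso
    simp only [Nat.reducePow, Nat.reduceMul] at hX
    have h8 : Nat.card (centralizer ({x} : Set X)) = 8 := by omega
    have hab := centralizer_comm hxc (by rw [h8, h2])
    obtain ⟨w, hwC, hwN⟩ : ∃ w ∈ centralizer ({x} : Set X), w ∉ N := by
      by_contra h
      push Not at h
      have := Subgroup.card_le_of_le (h : centralizer ({x} : Set X) ≤ N)
      omega
    have hle : centralizer ({x} : Set X) ≤ centralizer ({x * w} : Set X) := fun g hg => by
      rw [mem_centralizer_singleton_iff]
      exact hab g hg _ (mul_mem (mem_centralizer_singleton_iff.mpr rfl) hwC)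
    have hwy : co w y = z := by
      rcases hZ _ (D.co_center w y) with h | h
      · exfalso
        have htop : ∀ g, co g w = 1 := by
          intro g
          by_cases hg : g ∈ centralizer ({x} : Set X)
          · exact co_eq_one.mpr (hab g hg w hwC)
          · have hy' : y ∉ centralizer ({x} : Set X) := fun hh =>
              hy (co_eq_one.mpr (mem_centralizer_singleton_iff.mp hh).symm)
            have h1 : y⁻¹ * g ∈ centralizer ({x} : Set X) :=
              (Subgroup.mul_mem_iff_of_index_two hC2).mpr
                ⟨fun hh => absurd (inv_mem_iff.mp hh) hy', fun hh => absurd hh hg⟩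
            calc co g w = co (y * (y⁻¹ * g)) w := by rw [mul_inv_cancel_left]
              _ = 1 := by
                rw [D.co_mul_left, D.co_symm w y, h, co_eq_one.mpr (hab _ h1 w hwC), mul_one]
        exact hwN (Or.inl (mem_center_iff.mpr fun g => co_eq_one.mp (htop g)))
      · exact h
    have hxwc : x * w ∈ center X := by
      refine mem_center_iff.mpr fun g => (co_eq_one.mp (?_ : co (x * w) g = 1)).symm
      by_cases hg : g ∈ centralizer ({x} : Set X)
      · exact co_eq_one.mpr (mem_centralizer_singleton_iff.mp (hle hg)).symm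
      · have hy' : y ∉ centralizer ({x} : Set X) := fun hh =>
          hy (co_eq_one.mpr (mem_centralizer_singleton_iff.mp hh).symm)
        have h1 : y⁻¹ * g ∈ centralizer ({x} : Set X) :=
          (Subgroup.mul_mem_iff_of_index_two hC2).mpr
            ⟨fun hh => absurd (inv_mem_iff.mp hh) hy', fun hh => absurd hh hg⟩
        calc co (x * w) g = co (x * w) (y * (y⁻¹ * g)) := by rw [mul_inv_cancel_left]
          _ = 1 := by
            rw [D.co_mul_right, D.co_mul_left x w y, (hcv y).resolve_left hy, hwy, hexp z hz,
              co_eq_one.mpr (mem_centralizer_singleton_iff.mp (hle h1)).symm, mul_one]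
    have := N.mul_mem hxN (Or.inl hxwc : x * w ∈ N)
    rw [← mul_assoc, hxx, one_mul] at this
    exact hwN this
  · -- the extraspecial group of order 32
    simp only [Nat.reducePow, Nat.reduceMul] at hX
    refine Or.inr (Or.inr ⟨⟨hsp, h2⟩, hX, ?_⟩)
    have hxm : x ∈ centralizer ({x} : Set X) := mem_centralizer_singleton_iff.mpr rfl
    obtain ⟨T, hT⟩ : ∃ T : Finset X, T = Finset.univ.filter (fun g => g * g = 1) := ⟨_, rfl⟩
    obtain ⟨R, hR⟩ : ∃ R : Finset X, R = Finset.univ.filter (fun g => g ∉ centralizer ({x} : Set X)) :=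
      ⟨_, rfl⟩
    have hRc : R.card = 16 := by
      have h1 : (Finset.univ.filter (fun g : X => g ∈ centralizer ({x} : Set X))).card = 16 := by
        rw [← Fintype.card_subtype, ← Nat.card_eq_fintype_card]
        show Nat.card (centralizer ({x} : Set X)) = 16
        omega
      have := Finset.card_filter_add_card_filter_not (s := (Finset.univ : Finset X))
        (fun g => g ∈ centralizer ({x} : Set X))
      rw [h1, Finset.card_univ, ← Nat.card_eq_fintype_card, hX] at this
      rw [hR]; omega
    have hin : (T.filter (fun g => g ∈ centralizer ({x} : Set X))).card = 4 := by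
      have : T.filter (fun g => g ∈ centralizer ({x} : Set X)) =
          Finset.univ.filter (fun g => g ∈ N) := by
        ext g
        simp only [hT, Finset.mem_filter, Finset.mem_univ, true_and]
        exact ⟨fun h => hinside g (mem_centralizer_singleton_iff.mp h.2) h.1,
          fun h => ⟨hNexp g h, hNC h⟩⟩
      rw [this, ← Fintype.card_subtype, ← Nat.card_eq_fintype_card]
      exact hN4
    have hout : (T.filter (fun g => g ∉ centralizer ({x} : Set X))).card = 8 := by
      have hsplit := Finset.card_filter_add_card_filter_not (s := R) (fun g => g * g = 1)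
      have hbij : (R.filter (fun g => g * g = 1)).card = (R.filter (fun g => ¬ g * g = 1)).card := by
        have hflip : ∀ g ∈ R, g * x ∈ R ∧ (g * x * (g * x) = 1 ↔ ¬ g * g = 1) := by
          intro g hg
          simp only [hR, Finset.mem_filter, Finset.mem_univ, true_and] at hg ⊢
          refine ⟨fun h => hg ?_, ?_⟩
          · have := mul_mem h (inv_mem hxm)
            rwa [mul_inv_cancel_right] at this
          · have hk : co g x = z := by
              rw [D.co_symm]
              exact (hcv g).resolve_left fun h => hg (mem_centralizer_singleton_iff.mpr (co_eq_one.mp h).symm)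
            rw [D.sq_mul', hk, hxx, mul_one]
            rcases hZ _ (D.sq_central g) with h | h <;> rw [h]
            · simp [hz1]
            · simp [hz1, hexp z hz]
        refine Finset.card_nbij' (fun g => g * x) (fun g => g * x) ?_ ?_ ?_ ?_
        · intro g hg
          simp only [Finset.mem_filter, Finset.coe_filter, Set.mem_ofPred_eq] at hg ⊢
          exact ⟨(hflip g hg.1).1, fun h => (hflip g hg.1).2.mp h hg.2⟩
        · intro g hg
          simp only [Finset.mem_filter, Finset.coe_filter, Set.mem_ofPred_eq] at hg ⊢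
          exact ⟨(hflip g hg.1).1, (hflip g hg.1).2.mpr hg.2⟩
        · intro g _; simp [mul_assoc, hxx]
        · intro g _; simp [mul_assoc, hxx]
      have e : T.filter (fun g => g ∉ centralizer ({x} : Set X)) = R.filter (fun g => g * g = 1) := by
        ext g; simp [hT, hR, and_comm]
      rw [e]; omega
    have hTc : T.card = 12 := by
      rw [← Finset.card_filter_add_card_filter_not (s := T) (fun g => g ∈ centralizer ({x} : Set X)),
        hin, hout]
    have hset : Finset.univ.filter (fun g : X => orderOf g = 2) = T.erase 1 := by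
      ext g
      simp only [hT, Finset.mem_filter, Finset.mem_univ, true_and, Finset.mem_erase, hord]
      exact and_comm
    rw [Nat.card_eq_fintype_card, Fintype.card_subtype, hset,
      Finset.card_erase_of_mem (by simp [hT]), hTc]

end Data

end Cfsg.Agent.OddAutTwo
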