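import Cfsg.Agent.OddAutTwo.SelfCentral
import Cfsg.Agent.Fusion.Critical

/-!
# All squares are central
-/

set_option autoImplicit false

namespace Cfsg.Agent.OddAutTwo

open Subgroup
open scoped commutatorElement

variable {X : Type*} [Group X] [Finite X] {D : Data X}

omit [Finite X] in
theorem sq_mul {a c : X} {k : X} (hk : c * a = k * (a * c)) (hkc : ∀ g : X, Commute k g → g * k = k * g)
    (ha : Commute k a) : (a * c) * (a * c) = k * (a * a * (c * c)) := by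
  calc a * c * (a * c) = a * (c * a) * c := by group
    _ = (a * k) * (a * c) * c := by rw [hk]; group
    _ = (k * a) * (a * c) * c := by rw [hkc a ha]
    _ = _ := by group

theorem Homo.abelian_of_sq (H : Homo D) (hS : 2 ≤ H.S) (C : Subgroup X) (hle : H.Y ≤ C) (hCi : D.Inv C)
    (hcomm : ∀ c ∈ C, ∀ y ∈ H.Y, c * y = y * c) (hsq : ∀ c ∈ C, c * c ∈ H.Y)
    (hk : ∀ a ∈ C, ∀ c ∈ C, a * c * a⁻¹ * c⁻¹ ∈ H.U)
    (hinj : ∀ c ∈ C, (c * c) ^ 2 ^ (H.S - 1) = 1 → c ∈ H.Y) :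
    ∀ a ∈ C, ∀ c ∈ C, a * c = c * a := by
  obtain ⟨σ, hσ⟩ : ∃ σ, σ = H.σ := ⟨_, rfl⟩
  by_cases hall : ∀ c ∈ C, c ∈ H.Y
  · exact fun a ha c hc => H.comm _ (hall a ha) _ (hall c hc)
  push Not at hall
  obtain ⟨c₀, hc₀, hcY⟩ := hall
  have hmul : ∀ a ∈ C, ∀ c ∈ C, ((a * c) * (a * c)) ^ 2 ^ (H.S - 1) =
      (a * a) ^ 2 ^ (H.S - 1) * (c * c) ^ 2 ^ (H.S - 1) := by
    intro a ha c hc
    have hU := hk c hc a ha
    have h1 : c * a = (c * a * c⁻¹ * a⁻¹) * (a * c) := by group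
    obtain ⟨k, hk'⟩ : ∃ k, k = c * a * c⁻¹ * a⁻¹ := ⟨_, rfl⟩
    rw [← hk'] at h1 hU
    rw [sq_mul h1 (fun g hg => hg.symm.eq) (H.ucomm hU a).symm,
      (show Commute k (a * a * (c * c)) from (H.ucomm hU _).symm).mul_pow,
      (show Commute (a * a) (c * c) from H.comm _ (hsq a ha) _ (hsq c hc)).mul_pow]
    have : k ^ 2 ^ (H.S - 1) = 1 := by
      rw [show H.S - 1 = (H.S - 2) + 1 by omega, pow_succ', pow_mul, pow_two, H.uu hU, one_pow]
    rw [this, one_mul]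
  have hσA : σ ∈ D.A := hσ ▸ H.rot.1
  obtain ⟨v, hv⟩ : ∃ v, v = (c₀ * c₀) ^ 2 ^ (H.S - 1) := ⟨_, rfl⟩
  have hvU : v ∈ H.U := hv ▸ H.top_mem (hsq _ hc₀)
  have hv1 : v ≠ 1 := fun h => hcY (hinj _ hc₀ (hv ▸ h))
  have hd₀ : σ c₀ ∈ C := hCi σ hσA _ hc₀
  have hvσ : (σ c₀ * σ c₀) ^ 2 ^ (H.S - 1) = σ v := by rw [hv, map_pow, map_mul]
  have hcd : c₀ * σ c₀ = σ c₀ * c₀ := by
    obtain ⟨k, hk'⟩ : ∃ k, k = c₀ * σ c₀ * c₀⁻¹ * (σ c₀)⁻¹ := ⟨_, rfl⟩
    have hkU : k ∈ H.U := hk' ▸ hk _ hc₀ _ hd₀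
    have he₀ : σ (σ c₀) ∈ C := hCi σ hσA _ hd₀
    obtain ⟨y, hy, ey⟩ : ∃ y ∈ H.Y, σ (σ c₀) = c₀ * σ c₀ * y := by
      refine ⟨(c₀ * σ c₀)⁻¹ * σ (σ c₀), hinj _ (C.mul_mem (C.inv_mem (C.mul_mem hc₀ hd₀)) he₀) ?_,
        (mul_inv_cancel_left _ _).symm⟩
      rw [hmul _ (C.inv_mem (C.mul_mem hc₀ hd₀)) _ he₀, ← mul_inv_rev, inv_pow, hmul _ hc₀ _ hd₀,
        hvσ, ← map_mul, ← map_pow, hvσ, ← hv, hσ, H.rot.2.2.2.1 v hvU, inv_mul_cancel]
    have hfix : σ k = k := by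
      have e : σ k = σ c₀ * σ (σ c₀) * (σ c₀)⁻¹ * (σ (σ c₀))⁻¹ := by
        rw [hk']; simp only [map_mul, map_inv]
      have hyd : σ c₀ * y = y * σ c₀ := hcomm _ hd₀ y hy
      have e2 : σ c₀ * σ (σ c₀) * (σ c₀)⁻¹ * (σ (σ c₀))⁻¹ = k⁻¹ := by
        rw [ey, hk']
        calc σ c₀ * (c₀ * σ c₀ * y) * (σ c₀)⁻¹ * (c₀ * σ c₀ * y)⁻¹
            = σ c₀ * c₀ * (σ c₀ * y) * (σ c₀)⁻¹ * (y⁻¹ * (σ c₀)⁻¹ * c₀⁻¹) := by group
          _ = σ c₀ * c₀ * (y * σ c₀) * (σ c₀)⁻¹ * (y⁻¹ * (σ c₀)⁻¹ * c₀⁻¹) := by rw [hyd]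
          _ = (c₀ * σ c₀ * c₀⁻¹ * (σ c₀)⁻¹)⁻¹ := by group
      rw [e, e2, inv_eq_of_mul_eq_one_right (H.uu hkU)]
    have hk1 : k = 1 := by
      by_contra hne
      exact H.rot.2.2.1 k hkU hne (hσ ▸ hfix)
    rw [hk', mul_inv_eq_one, mul_inv_eq_iff_eq_mul] at hk1
    exact hk1
  have gen : ∀ a ∈ C, ∃ y ∈ H.Y, a = y ∨ a = c₀ * y ∨ a = σ c₀ * y ∨ a = c₀ * σ c₀ * y := by
    intro a ha
    have key : ∀ g ∈ C, (g * g) ^ 2 ^ (H.S - 1) = (a * a) ^ 2 ^ (H.S - 1) → g⁻¹ * a ∈ H.Y := by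
      intro g hg hga
      refine hinj _ (C.mul_mem (C.inv_mem hg) ha) ?_
      rw [hmul _ (C.inv_mem hg) _ ha, ← mul_inv_rev, inv_pow, hga, inv_mul_cancel]
    rcases H.cases_U hvU hv1 (H.top_mem (hsq a ha)) with h | h | h | h
    · exact ⟨a, hinj a ha h, Or.inl rfl⟩
    · exact ⟨_, key c₀ hc₀ (by rw [h, hv]), Or.inr (Or.inl (mul_inv_cancel_left _ _).symm)⟩
    · exact ⟨_, key _ hd₀ (by rw [h, hvσ, hσ]), Or.inr (Or.inr (Or.inl (mul_inv_cancel_left _ _).symm))⟩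
    · exact ⟨_, key _ (C.mul_mem hc₀ hd₀) (by rw [h, hmul _ hc₀ _ hd₀, hvσ, ← hv, hσ]),
        Or.inr (Or.inr (Or.inr (mul_inv_cancel_left _ _).symm))⟩
  intro a ha c hc
  obtain ⟨y, hy, ea⟩ := gen a ha
  obtain ⟨y', hy', ec⟩ := gen c hc
  have a1 : Commute c₀ y := hcomm _ hc₀ _ hy
  have a2 : Commute (σ c₀) y := hcomm _ hd₀ _ hy
  have b1 : Commute c₀ y' := hcomm _ hc₀ _ hy'
  have b2 : Commute (σ c₀) y' := hcomm _ hd₀ _ hy'
  have yy : Commute y y' := H.comm _ hy _ hy'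
  have cd : Commute c₀ (σ c₀) := hcd
  have main : ∀ g ∈ ({1, c₀, σ c₀, c₀ * σ c₀} : Set X), ∀ g' ∈ ({1, c₀, σ c₀, c₀ * σ c₀} : Set X),
      Commute (g * y) (g' * y') := by
    intro g hg g' hg'
    have h1 : Commute g g' ∧ Commute g y' ∧ Commute y g' := by
      simp only [Set.mem_insert_iff, Set.mem_singleton_iff] at hg hg'
      refine ⟨?_, ?_, ?_⟩
      · rcases hg with rfl | rfl | rfl | rfl <;> rcases hg' with rfl | rfl | rfl | rfl <;>
          simp [Commute.one_left, Commute.one_right, cd, cd.symm, Commute.refl, Commute.mul_left,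
            Commute.mul_right]
      · rcases hg with rfl | rfl | rfl | rfl
        exacts [Commute.one_left _, b1, b2, b1.mul_left b2]
      · rcases hg' with rfl | rfl | rfl | rfl
        exacts [Commute.one_right _, a1.symm, a2.symm, a1.symm.mul_right a2.symm]
    exact (h1.1.mul_right h1.2.1).mul_left (h1.2.2.mul_right yy)
  have pick : ∀ {x z : X}, (x = z ∨ x = c₀ * z ∨ x = σ c₀ * z ∨ x = c₀ * σ c₀ * z) →
      ∃ g ∈ ({1, c₀, σ c₀, c₀ * σ c₀} : Set X), x = g * z := by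
    rintro x z (h | h | h | h)
    exacts [⟨1, by simp, by rw [one_mul, h]⟩, ⟨c₀, by simp, h⟩, ⟨σ c₀, by simp, h⟩, ⟨_, by simp, h⟩]
  obtain ⟨g, hg, eg⟩ := pick ea
  obtain ⟨g', hg', eg'⟩ := pick ec
  rw [eg, eg']
  exact (main g hg g' hg').eq

/-- All squares are central. -/
theorem Data.sq_central (D : Data X) (x : X) : x * x ∈ center X := by
  have : Fact (Nat.Prime 2) := ⟨Nat.prime_two⟩
  obtain ⟨C, hCc, -, hΦ, hXC, hself⟩ := Fusion.exists_critical D.isTwo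
  have hCi := D.inv_of_char C hCc
  obtain ⟨Y, hY⟩ : ∃ Y : Subgroup X, Y = C ⊓ centralizer (C : Set X) := ⟨_, rfl⟩
  have memY : ∀ y, y ∈ Y ↔ y ∈ C ∧ ∀ c ∈ C, c * y = y * c := fun y => by
    rw [hY]; exact and_congr_right fun _ => mem_centralizer_iff
  have hn : Y.Normal := by
    rw [hY]
    exact normal_of_characteristic _ (h := by
      rw [characteristic_iff_le_comap]
      intro φ
      rw [comap_inf]
      exact inf_le_inf (characteristic_iff_le_comap.mp hCc φ)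
        (characteristic_iff_le_comap.mp inferInstance φ))
  have hYi : D.Inv Y := fun φ hφ y hy => by
    obtain ⟨h1, h2⟩ := (memY y).mp hy
    refine (memY _).mpr ⟨hCi φ hφ y h1, fun c hc => ?_⟩
    obtain ⟨c, rfl⟩ := φ.surjective c
    have hc' := hCi φ⁻¹ (D.A.inv_mem hφ) _ hc
    rw [MulAut.inv_apply, MulEquiv.symm_apply_apply] at hc'
    rw [← map_mul, ← map_mul, h2 c hc']
  have hYc : ∀ a ∈ Y, ∀ c ∈ Y, a * c = c * a := fun a ha c hc =>
    ((memY c).mp hc).2 a ((memY a).mp ha).1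
  have hsq : ∀ c ∈ C, c * c ∈ Y := fun c hc => by
    have h := hΦ (mem_map_of_mem C.subtype (Core.pow_mem_frattini (p := 2) (D.isTwo.to_subgroup C) ⟨c, hc⟩))
    rw [coe_subtype, SubmonoidClass.coe_pow, pow_two] at h
    rw [hY]
    exact ⟨C.mul_mem hc hc, h⟩
  have hcom : ∀ c ∈ C, ∀ g : X, c * g * c⁻¹ * g⁻¹ ∈ Y := fun c hc g => by
    rw [hY, ← commutatorElement_def]
    exact hXC (commutator_mem_commutator hc (mem_top g))
  by_cases hcen : Y ≤ center X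
  · refine hcen ?_
    have hx : x * x ∈ centralizer (C : Set X) := by
      rw [mem_centralizer_iff]
      intro c hc
      obtain ⟨k, hk⟩ : ∃ k, k = c * x * c⁻¹ * x⁻¹ := ⟨_, rfl⟩
      have hkc : ∀ g, g * k = k * g := fun g => mem_center_iff.mp (hcen (hk ▸ hcom c hc x)) g
      have hcc : ∀ g, g * (c * c) = c * c * g := fun g => mem_center_iff.mp (hcen (hsq c hc)) g
      have e1 : c * x = k * (x * c) := by rw [hk]; group
      have e2 : c * c * x = k * k * (x * (c * c)) := by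
        calc c * c * x = c * (c * x) := by group
          _ = (c * k) * (x * c) := by rw [e1]; group
          _ = k * (c * x) * c := by rw [hkc c]; group
          _ = _ := by rw [e1]; group
      have hkk : k * k = 1 := by
        rw [← hcc x] at e2
        simpa using e2
      calc c * (x * x) = (c * x) * x := by group
        _ = k * (x * c) * x := by rw [e1]
        _ = k * x * (c * x) := by group
        _ = k * (x * k) * (x * c) := by rw [e1]; group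
        _ = (k * k) * (x * x * c) := by rw [hkc x]; group
        _ = x * x * c := by rw [hkk, one_mul]
    rw [hY]
    exact ⟨hself hx, hx⟩
  have hmove : ∃ φ ∈ D.A, ∃ y ∈ Y, φ y ≠ y := by
    by_contra hno
    push Not at hno
    exact hcen (D.fixed_central Y hno)
  obtain ⟨H, hH⟩ := exists_homo D Y hYc hYi hmove
  subst hH
  have hS : 2 ≤ H.S := by
    by_contra h
    have h1 : H.S = 1 := by have := H.S_pos; omega
    refine hcen fun y hy => H.U_center ((H.memU y).mpr ⟨hy, ?_⟩)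
    have := H.exp y hy
    rwa [h1, pow_one, pow_two] at this
  have hCY : ∀ c ∈ C, ∀ y ∈ H.Y, c * y = y * c := fun c hc y hy => ((memY y).mp hy).2 c hc
  have hinj : ∀ c ∈ C, (c * c) ^ 2 ^ (H.S - 1) = 1 → c ∈ H.Y := by
    intro c hc h
    obtain ⟨e, he, hee⟩ := H.exists_sqrt (hsq c hc) h
    obtain ⟨c', hc'⟩ : ∃ c', c' = c * e⁻¹ := ⟨_, rfl⟩
    have hc'C : c' ∈ C := hc' ▸ C.mul_mem hc (C.inv_mem ((memY e).mp he).1)
    have hinv : c' * c' = 1 := by
      rw [hc']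
      calc c * e⁻¹ * (c * e⁻¹) = c * (e⁻¹ * c) * e⁻¹ := by group
        _ = (c * c) * (e * e)⁻¹ := by rw [← hCY c hc _ (H.Y.inv_mem he)]; group
        _ = 1 := by rw [hee, mul_inv_cancel]
    have hU := D.no_three H.U H.U_center (fun v hv => H.uu hv) H.rot.2.1.ge hinv fun g => by
      obtain ⟨k, hk⟩ : ∃ k, k = g * c' * g⁻¹ * c'⁻¹ := ⟨_, rfl⟩
      have hkY : k ∈ H.Y := by
        have := H.Y.inv_mem (hcom c' hc'C g)
        rw [hk]
        have e' : g * c' * g⁻¹ * c'⁻¹ = (c' * g * c'⁻¹ * g⁻¹)⁻¹ := by group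
        rwa [e']
      rw [← hk]
      refine (H.memU k).mpr ⟨hkY, ?_⟩
      have e1 : g * c' * g⁻¹ = k * c' := by rw [hk]; group
      have e2 : (k * c') * (k * c') = 1 := by
        rw [← e1]
        calc g * c' * g⁻¹ * (g * c' * g⁻¹) = g * (c' * c') * g⁻¹ := by group
          _ = 1 := by rw [hinv]; group
      calc k * k = k * (k * (c' * c')) := by rw [hinv, mul_one]
        _ = k * (c' * k) * c' := by rw [hCY c' hc'C k hkY]; group
        _ = 1 := by rw [← e2]; group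
    have := H.Y.mul_mem (H.uY hU) he
    rwa [hc', inv_mul_cancel_right] at this
  have hkU : ∀ a ∈ C, ∀ c ∈ C, a * c * a⁻¹ * c⁻¹ ∈ H.U := by
    intro a ha c hc
    obtain ⟨k, hk⟩ : ∃ k, k = a * c * a⁻¹ * c⁻¹ := ⟨_, rfl⟩
    have hkY : k ∈ H.Y := hk ▸ hcom a ha c
    rw [← hk]
    refine (H.memU k).mpr ⟨hkY, ?_⟩
    have e1 : a * c = k * (c * a) := by rw [hk]; group
    have e2 : a * a * c = k * k * (c * (a * a)) := by
      calc a * a * c = a * (a * c) := by group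
        _ = (a * k) * (c * a) := by rw [e1]; group
        _ = k * (a * c) * a := by rw [hCY a ha k hkY]; group
        _ = _ := by rw [e1]; group
    rw [← hCY c hc _ (hsq a ha)] at e2
    simpa using e2
  have habel := H.abelian_of_sq hS C (fun y hy => ((memY y).mp hy).1) hCi hCY hsq hkU hinj
  exact H.squares_central (fun g hg => by
    have hgC : g ∈ C := hself (mem_centralizer_iff.mpr fun c hc => by
      exact mem_centralizer_iff.mp hg c ((memY c).mpr ⟨hc, fun d hd => habel d hd c hc⟩))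
    exact (memY g).mpr ⟨hgC, fun d hd => habel d hd g hgC⟩) x

end Cfsg.Agent.OddAutTwo
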