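import Cfsg.Agent.OddAutTwo.Homocyclic

/-!
# A moved self-centralizing abelian subgroup forces central squares
-/

set_option autoImplicit false

namespace Cfsg.Agent.OddAutTwo

open Subgroup

variable {X : Type*} [Group X] [Finite X] {D : Data X}

namespace Homo

variable (H : Homo D) (hC : centralizer (H.Y : Set X) ≤ H.Y)

include hC in
omit [Finite X] in
theorem mem_Y_of_eps {x : X} (h : ∀ d ∈ H.Y, H.eps x d = 1) : x ∈ H.Y := by
  refine hC (mem_centralizer_iff.mpr fun d hd => ?_)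
  have := h d hd
  rw [eps, mul_inv_eq_one, mul_inv_eq_iff_eq_mul] at this
  exact this.symm

omit [Finite X] in
theorem eps_level {n : ℕ} (hn : n + 2 = H.S) (x : X) {d d' : X} (hd : d ∈ H.Y) (hd' : d' ∈ H.Y)
    (h : d ^ 2 ^ (n + 1) = d' ^ 2 ^ (n + 1)) : H.eps x d ^ 2 ^ n = H.eps x d' ^ 2 ^ n := by
  obtain ⟨e, he, hee⟩ := H.exists_sqrt (H.Y.mul_mem hd (H.Y.inv_mem hd')) (by
    rw [show H.S - 1 = n + 1 by omega,
      (show Commute d d'⁻¹ from H.comm _ hd _ (H.Y.inv_mem hd')).mul_pow, inv_pow, h, mul_inv_cancel])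
  have e1 : d = e * e * d' := by rw [hee, inv_mul_cancel_right]
  rw [e1, H.eps_mul_right (H.Y.mul_mem he he) hd', H.eps_mul_right he he,
    (show Commute (H.eps x e * H.eps x e) (H.eps x d') from
      H.comm _ (H.Y.mul_mem (H.eps_mem he) (H.eps_mem he)) _ (H.eps_mem hd')).mul_pow,
    ← pow_two, ← pow_mul, ← pow_succ', ← H.eps_pow he,
    H.eps_U (show e ^ 2 ^ (n + 1) ∈ H.U by rw [show n + 1 = H.S - 1 by omega]; exact H.top_mem he),
    one_mul]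

/-- The first level of the action. -/
noncomputable def g1 (n : ℕ) (x v : X) : X :=
  open scoped Classical in
  if h : ∃ d ∈ H.Y, d ^ 2 ^ (n + 1) = v then H.eps x h.choose ^ 2 ^ n else 1

omit [Finite X] in
theorem g1_spec {n : ℕ} (hn : n + 2 = H.S) (x : X) {d v : X} (hd : d ∈ H.Y) (h : d ^ 2 ^ (n + 1) = v) :
    H.g1 n x v = H.eps x d ^ 2 ^ n := by
  have hex : ∃ d ∈ H.Y, d ^ 2 ^ (n + 1) = v := ⟨d, hd, h⟩
  rw [g1, dif_pos hex]
  exact H.eps_level hn x hex.choose_spec.1 hd (hex.choose_spec.2.trans h.symm)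

omit [Finite X] in
theorem exists_root' {n : ℕ} (hn : n + 2 = H.S) {v : X} (hv : v ∈ H.U) :
    ∃ d ∈ H.Y, d ^ 2 ^ (n + 1) = v := by
  rw [show n + 1 = H.S - 1 by omega]
  exact H.root v hv

omit [Finite X] in
theorem g1_mem {n : ℕ} (hn : n + 2 = H.S) (x : X) {v : X} (hv : v ∈ H.U) : H.g1 n x v ∈ H.U := by
  obtain ⟨d, hd, e⟩ := H.exists_root' hn hv
  rw [H.g1_spec hn x hd e]
  refine (H.memU _).mpr ⟨H.Y.pow_mem (H.eps_mem hd) _, ?_⟩
  rw [← pow_add, ← two_mul, ← pow_succ', ← H.eps_pow hd, e, H.eps_U hv]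

omit [Finite X] in
theorem g1_mul {n : ℕ} (hn : n + 2 = H.S) (x y : X) {v : X} (hv : v ∈ H.U) :
    H.g1 n (x * y) v = H.g1 n x v * H.g1 n y v := by
  obtain ⟨d, hd, e⟩ := H.exists_root' hn hv
  rw [H.g1_spec hn _ hd e, H.g1_spec hn _ hd e, H.g1_spec hn _ hd e, H.eps_mul_left]
  obtain ⟨e1, he1, hee1⟩ := H.eps_sqrt y hd
  obtain ⟨e2, he2, hee2⟩ := H.eps_sqrt x he1
  have hA : H.eps x (H.eps y d) ^ 2 ^ n = 1 := by
    rw [← hee1, H.eps_mul_right he1 he1, ← hee2]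
    have : (e2 * e2 * (e2 * e2)) ^ 2 ^ n = e2 ^ 2 ^ H.S := by
      rw [← pow_two, ← pow_two, ← pow_mul, ← pow_mul]
      congr 1
      rw [← hn]; ring
    rw [this, H.exp e2 he2]
  have c1 : Commute (H.eps x (H.eps y d)) (H.eps y d) :=
    H.comm _ (H.eps_mem (H.eps_mem hd)) _ (H.eps_mem hd)
  have c2 : Commute (H.eps x (H.eps y d) * H.eps y d) (H.eps x d) :=
    H.comm _ (H.Y.mul_mem (H.eps_mem (H.eps_mem hd)) (H.eps_mem hd)) _ (H.eps_mem hd)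
  rw [c2.mul_pow, c1.mul_pow, hA, one_mul]
  exact H.comm _ (H.Y.pow_mem (H.eps_mem hd) _) _ (H.Y.pow_mem (H.eps_mem hd) _)

omit [Finite X] in
theorem g1_add {n : ℕ} (hn : n + 2 = H.S) (x : X) {v w : X} (hv : v ∈ H.U) (hw : w ∈ H.U) :
    H.g1 n x (v * w) = H.g1 n x v * H.g1 n x w := by
  obtain ⟨d, hd, e⟩ := H.exists_root' hn hv
  obtain ⟨d', hd', e'⟩ := H.exists_root' hn hw
  rw [H.g1_spec hn x (H.Y.mul_mem hd hd') (by
      rw [(show Commute d d' from H.comm _ hd _ hd').mul_pow, e, e']),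
    H.g1_spec hn x hd e, H.g1_spec hn x hd' e', H.eps_mul_right hd hd',
    (show Commute (H.eps x d) (H.eps x d') from H.comm _ (H.eps_mem hd) _ (H.eps_mem hd')).mul_pow]

omit [Finite X] in
theorem g1_map {n : ℕ} (hn : n + 2 = H.S) {ψ : MulAut X} (hψ : ψ ∈ D.A) (x : X) {v : X} (hv : v ∈ H.U) :
    H.g1 n (ψ x) (ψ v) = ψ (H.g1 n x v) := by
  obtain ⟨d, hd, e⟩ := H.exists_root' hn hv
  rw [H.g1_spec hn _ (H.inv ψ hψ d hd) (by rw [← map_pow, e]), H.g1_spec hn x hd e, map_pow,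
    H.eps_map]

theorem g1_injective {n : ℕ} (hn : n + 2 = H.S) {x v : X} (hv : v ∈ H.U) (hv1 : v ≠ 1)
    (h : H.g1 n x v = 1) : ∀ w ∈ H.U, H.g1 n x w = 1 :=
  H.orbit_injective (H.g1 n) (fun x _ => H.g1_mem hn x) (fun x y _ => H.g1_mul hn x y)
    (fun x _ hv _ hw => H.g1_add hn x hv hw) (fun _ hψ x _ => H.g1_map hn hψ x) x hv hv1 h

include hC in
theorem squares_two (hS : H.S = 2) (x : X) : x * x ∈ H.U := by
  by_cases hx : x ∈ H.Y
  · refine (H.memU _).mpr ⟨H.Y.mul_mem hx hx, ?_⟩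
    have := H.exp x hx
    rw [hS] at this
    rw [← pow_two, ← pow_two, ← pow_mul]
    exact this
  have hn : 0 + 2 = H.S := by omega
  have spec : ∀ (y : X) {d : X}, d ∈ H.Y → H.g1 0 y (d ^ 2) = H.eps y d := fun y d hd => by
    rw [H.g1_spec hn y hd (by norm_num), pow_zero, pow_one]
  have top : ∀ {d : X}, d ∈ H.Y → d ^ 2 ∈ H.U := fun {d} hd => by
    have := H.top_mem hd
    rwa [hS] at this
  have hxx : x * x ∈ H.Y := H.mem_Y_of_eps hC fun d hd => by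
    rw [← spec _ hd, H.g1_mul hn _ _ (top hd), H.uu (H.g1_mem hn x (top hd))]
  refine (H.memU _).mpr ⟨hxx, ?_⟩
  by_contra hne
  have h1 : H.g1 0 x ((x * x) ^ 2) = 1 := by rw [spec x hxx]; unfold eps; group
  rw [pow_two] at h1
  refine hx (H.mem_Y_of_eps hC fun d hd => ?_)
  rw [← spec x hd]
  exact H.g1_injective hn (by rw [← pow_two]; exact top hxx) hne h1 _ (top hd)

include hC in
theorem exists_top_level {n : ℕ} (hn : n + 2 = H.S) {x : X} : ∀ k j, j + k = n + 1 → 2 ≤ j →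
    ∀ x, x ∉ H.Y → (∀ d ∈ H.Y, ∃ e ∈ H.Y, H.eps x d = e ^ 2 ^ j) →
    ∃ y, y ∉ H.Y ∧ ∀ d ∈ H.Y, H.eps y d ∈ H.U := by
  intro k
  induction k with
  | zero =>
    intro j hj hj2 x hx hl
    refine ⟨x, hx, fun d hd => ?_⟩
    obtain ⟨e, he, ee⟩ := hl d hd
    rw [ee, show j = H.S - 1 by omega]
    exact H.top_mem he
  | succ k ih =>
    intro j hj hj2 x hx hl
    by_cases hl' : ∀ d ∈ H.Y, ∃ e ∈ H.Y, H.eps x d = e ^ 2 ^ (j + 1)
    · exact ih (j + 1) (by omega) (by omega) x hx hl'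
    push Not at hl'
    obtain ⟨d₀, hd₀, hne⟩ := hl'
    have key : ∀ d ∈ H.Y, ∃ f ∈ H.Y, H.eps (x * x) d = f ^ 2 ^ (j + 2) * (H.eps x d * H.eps x d) := by
      intro d hd
      obtain ⟨e, he, ee⟩ := hl d hd
      obtain ⟨e', he', ee'⟩ := hl e he
      refine ⟨e' ^ 2 ^ (j - 2), H.Y.pow_mem he' _, ?_⟩
      rw [H.eps_mul_left, mul_assoc]
      congr 1
      rw [ee, H.eps_pow he, ee', ← pow_mul, ← pow_mul]
      congr 1
      rw [← pow_add, ← pow_add]; congr 1; omega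
    refine ih (j + 1) (by omega) (by omega) (x * x) (fun hY => hne 1 H.Y.one_mem ?_) fun d hd => ?_
    · exfalso
      obtain ⟨f, hf, ef⟩ := key d₀ hd₀
      obtain ⟨e, he, ee⟩ := hl d₀ hd₀
      have h0 : H.eps (x * x) d₀ = 1 := by
        unfold eps
        rw [H.comm _ hY _ hd₀, mul_inv_cancel_right, mul_inv_cancel]
      rw [h0] at ef
      obtain ⟨t, ht⟩ : ∃ t, t = e * f ^ 2 := ⟨_, rfl⟩
      have htY : t ∈ H.Y := ht ▸ H.Y.mul_mem he (H.Y.pow_mem hf _)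
      have h1 : t ^ 2 ^ (j + 1) = 1 := by
        rw [ht, (show Commute e (f ^ 2) from H.comm _ he _ (H.Y.pow_mem hf _)).mul_pow, ← pow_mul,
          ← pow_succ' 2 (j + 1), pow_succ 2 j, pow_mul, ← ee, pow_two,
          H.comm _ (H.Y.mul_mem (H.eps_mem hd₀) (H.eps_mem hd₀)) _ (H.Y.pow_mem hf _)]
        exact ef.symm
      obtain ⟨r, hr, rr⟩ := H.exists_root (j + 1) (by omega) t htY h1
      refine hne (r ^ 2 ^ (H.S - (j + 1) - 1) * f⁻¹) (H.Y.mul_mem (H.Y.pow_mem hr _) (H.Y.inv_mem hf)) ?_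
      rw [ee, (show Commute (r ^ 2 ^ (H.S - (j + 1) - 1)) f⁻¹ from
        H.comm _ (H.Y.pow_mem hr _) _ (H.Y.inv_mem hf)).mul_pow, ← pow_mul, ← pow_add,
        show H.S - (j + 1) - 1 + (j + 1) = (H.S - (j + 1)) + j by omega, pow_add, pow_mul, rr, ht,
        (show Commute e (f ^ 2) from H.comm _ he _ (H.Y.pow_mem hf _)).mul_pow, ← pow_mul, inv_pow,
        ← pow_succ' 2 j, mul_inv_cancel_right]
    · obtain ⟨f, hf, ef⟩ := key d hd
      obtain ⟨e, he, ee⟩ := hl d hd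
      refine ⟨f ^ 2 * e, H.Y.mul_mem (H.Y.pow_mem hf _) he, ?_⟩
      rw [ef, ee, (show Commute (f ^ 2) e from H.comm _ (H.Y.pow_mem hf _) _ he).mul_pow, ← pow_mul,
        ← pow_two, ← pow_mul, ← pow_succ, ← pow_succ']

include hC in
theorem exists_level_two {n : ℕ} (hn : n + 3 = H.S) (h : ∃ x : X, x ∉ H.Y) :
    ∃ y, y ∉ H.Y ∧ ∀ d ∈ H.Y, ∃ e ∈ H.Y, H.eps y d = e ^ 2 ^ 2 := by
  have hn' : (n + 1) + 2 = H.S := by omega
  have lev : ∀ x : X, (∀ v ∈ H.U, H.g1 (n + 1) x v = 1) → ∀ d ∈ H.Y, ∃ e ∈ H.Y, H.eps x d = e ^ 2 ^ 2 := by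
    intro x hg d hd
    have h1 : H.eps x d ^ 2 ^ (n + 1) = 1 := by
      rw [← H.g1_spec hn' x hd rfl]
      refine hg _ ?_
      rw [show n + 1 + 1 = H.S - 1 by omega]
      exact H.top_mem hd
    obtain ⟨e, he, ee⟩ := H.exists_root (n + 1) (by omega) _ (H.eps_mem hd) h1
    exact ⟨e, he, by rw [← ee, show H.S - (n + 1) = 2 by omega]⟩
  by_contra hno
  push Not at hno
  obtain ⟨x, hx⟩ := h
  have hxx : x * x ∈ H.Y := by
    by_contra hY
    obtain ⟨d, hd, hne⟩ := hno _ hY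
    obtain ⟨e, he, ee⟩ := lev (x * x) (fun v hv => by
      rw [H.g1_mul hn' _ _ hv, H.uu (H.g1_mem hn' x hv)]) d hd
    exact hne e he ee
  -- the image is fixed by the first level
  have fixed : ∀ d ∈ H.Y, H.g1 (n + 1) x (H.g1 (n + 1) x (d ^ 2 ^ (n + 2))) =
      H.g1 (n + 1) x (d ^ 2 ^ (n + 2)) := by
    intro d hd
    obtain ⟨e, he, ee⟩ := H.eps_sqrt x hd
    have h0 : H.eps (x * x) d = 1 := by
      unfold eps
      rw [H.comm _ hxx _ hd, mul_inv_cancel_right, mul_inv_cancel]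
    rw [H.eps_mul_left, ← ee, H.eps_mul_right he he, mul_assoc] at h0
    have h1 := congrArg (fun t => t ^ 2 ^ n) h0
    simp only [one_pow] at h1
    rw [(show Commute (H.eps x e * H.eps x e) (e * e * (e * e)) from
      H.comm _ (H.Y.mul_mem (H.eps_mem he) (H.eps_mem he)) _
        (H.Y.mul_mem (H.Y.mul_mem he he) (H.Y.mul_mem he he))).mul_pow] at h1
    have a1 : (e * e) ^ 2 ^ (n + 1) = e ^ 2 ^ (n + 2) := by
      rw [← pow_two, ← pow_mul, ← pow_succ']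
    have a2 : H.g1 (n + 1) x (d ^ 2 ^ (n + 2)) = e ^ 2 ^ (n + 2) := by
      rw [H.g1_spec hn' x hd rfl, ← ee, a1]
    have a3 : (H.eps x e * H.eps x e) ^ 2 ^ n = H.g1 (n + 1) x (e ^ 2 ^ (n + 2)) := by
      rw [H.g1_spec hn' x he rfl, ← pow_two, ← pow_mul, ← pow_succ']
    have a4 : (e * e * (e * e)) ^ 2 ^ n = e ^ 2 ^ (n + 2) := by
      rw [← pow_two, ← pow_two, ← pow_mul, ← pow_mul]
      congr 1; ring
    rw [a3, a4] at h1
    rw [a2]
    have hU : e ^ 2 ^ (n + 2) ∈ H.U := by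
      rw [show n + 2 = H.S - 1 by omega]; exact H.top_mem he
    exact (eq_inv_of_mul_eq_one_left h1).trans (inv_eq_of_mul_eq_one_right (H.uu hU))
  obtain ⟨d₀, hd₀, hne₀⟩ : ∃ d ∈ H.Y, H.g1 (n + 1) x (d ^ 2 ^ (n + 2)) ≠ 1 := by
    by_contra hall
    push Not at hall
    obtain ⟨d, hd, hne⟩ := hno x hx
    obtain ⟨e, he, ee⟩ := lev x (fun v hv => by
      obtain ⟨d', hd', rfl⟩ := H.exists_root' hn' hv
      exact hall d' hd') d hd
    exact hne e he ee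
  have top : ∀ {d : X}, d ∈ H.Y → d ^ 2 ^ (n + 2) ∈ H.U := fun {d} hd => by
    rw [show n + 2 = H.S - 1 by omega]; exact H.top_mem hd
  have inj : ∀ v ∈ H.U, H.g1 (n + 1) x v = 1 → v = 1 := fun v hv h => by
    by_contra hv1
    exact hne₀ (H.g1_injective hn' hv hv1 h _ (top hd₀))
  have key : ∀ v ∈ H.U, H.g1 (n + 1) x v = v := by
    intro v hv
    obtain ⟨d, hd, rfl⟩ := H.exists_root' hn' hv
    obtain ⟨w, hw⟩ : ∃ w, w = H.g1 (n + 1) x (d ^ 2 ^ (n + 2)) := ⟨_, rfl⟩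
    have hwU : w ∈ H.U := hw ▸ H.g1_mem hn' x hv
    have h1 : H.g1 (n + 1) x w = w := hw ▸ fixed d hd
    have h2 : H.g1 (n + 1) x (d ^ 2 ^ (n + 2) * w) = 1 := by
      rw [H.g1_add hn' x hv hwU, h1, ← hw, H.uu hwU]
    have h3 := eq_inv_of_mul_eq_one_left (inj _ (H.U.mul_mem hv hwU) h2)
    rw [inv_eq_of_mul_eq_one_right (H.uu hwU)] at h3
    rw [show n + 1 + 1 = n + 2 from rfl, ← hw, ← h3]
  obtain ⟨v, hv, -, -, hv1, -, -⟩ := exists_ne_of_card_four H.rot.2.1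
  have ho := H.orbit (H.g1 (n + 1)) (fun x _ => H.g1_mem hn' x) (fun x y _ => H.g1_mul hn' x y)
    (fun _ hψ x _ => H.g1_map hn' hψ x) x hv
  rw [key v hv, key _ (H.σU (H.σU hv)), key _ (H.σU hv), H.σσσ hv, H.uu hv, one_mul] at ho
  exact hv1 ho

/-- The top level of the action. -/
noncomputable def g0 (x v : X) : X :=
  open scoped Classical in
  if h : ∃ d ∈ H.Y, d ^ 2 ^ (H.S - 1) = v then H.eps x h.choose else 1

omit [Finite X] in
theorem g0_spec {x : X} (hx : ∀ d ∈ H.Y, H.eps x d ∈ H.U) {d v : X} (hd : d ∈ H.Y)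
    (h : d ^ 2 ^ (H.S - 1) = v) : H.g0 x v = H.eps x d := by
  have hex : ∃ d ∈ H.Y, d ^ 2 ^ (H.S - 1) = v := ⟨d, hd, h⟩
  rw [g0, dif_pos hex]
  obtain ⟨hc1, hc2⟩ := hex.choose_spec
  obtain ⟨e, he, hee⟩ := H.exists_sqrt (H.Y.mul_mem hc1 (H.Y.inv_mem hd)) (by
    rw [(show Commute hex.choose d⁻¹ from H.comm _ hc1 _ (H.Y.inv_mem hd)).mul_pow, inv_pow, hc2, h,
      mul_inv_cancel])
  have e1 : hex.choose = e * e * d := by rw [hee, inv_mul_cancel_right]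
  rw [e1, H.eps_mul_right (H.Y.mul_mem he he) hd, H.eps_mul_right he he, H.uu (hx e he), one_mul]

include hC in
theorem false_of_three_le (hS : 3 ≤ H.S) (h : ∃ x : X, x ∉ H.Y) : False := by
  obtain ⟨n, hn⟩ : ∃ n, n + 3 = H.S := ⟨H.S - 3, by omega⟩
  obtain ⟨y, hy, hl⟩ := H.exists_level_two hC hn h
  obtain ⟨x₀, hx₀, hl₀⟩ := H.exists_top_level hC (show (n + 1) + 2 = H.S by omega) (x := y) n 2
    (by omega) le_rfl y hy hl
  obtain ⟨σ, hσ⟩ : ∃ σ, σ = H.σ := ⟨_, rfl⟩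
  -- an element acting injectively at the top level
  obtain ⟨x, hx, hlx, hinj⟩ : ∃ x, x ∉ H.Y ∧ (∀ d ∈ H.Y, H.eps x d ∈ H.U) ∧
      ∀ d ∈ H.Y, H.eps x d = 1 → d ^ 2 ^ (H.S - 1) = 1 := by
    by_cases hker : ∀ d ∈ H.Y, H.eps x₀ d = 1 → d ^ 2 ^ (H.S - 1) = 1
    · exact ⟨x₀, hx₀, hl₀, hker⟩
    push Not at hker
    obtain ⟨d₁, hd₁, he₁, hv1⟩ := hker
    obtain ⟨v, hv⟩ : ∃ v, v = d₁ ^ 2 ^ (H.S - 1) := ⟨_, rfl⟩
    have hvU : v ∈ H.U := hv ▸ H.top_mem hd₁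
    rw [← hv] at hv1
    have hl2 : ∀ d ∈ H.Y, H.eps (σ x₀) d ∈ H.U := by
      intro d hd
      have hd' : σ⁻¹ d ∈ H.Y := H.inv σ⁻¹ (D.A.inv_mem (hσ ▸ H.rot.1)) d hd
      have := H.σU (hl₀ _ hd')
      rwa [← hσ, H.eps_map, MulAut.inv_apply, MulEquiv.apply_symm_apply] at this
    have hl3 : ∀ d ∈ H.Y, H.eps (x₀ * σ x₀) d ∈ H.U := fun d hd => by
      rw [H.eps_mul_left, H.eps_U (hl2 d hd), one_mul]
      exact H.U.mul_mem (hl2 d hd) (hl₀ d hd)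
    have spec : ∀ d ∈ H.Y, H.eps x₀ d = H.g0 x₀ (d ^ 2 ^ (H.S - 1)) := fun d hd =>
      (H.g0_spec hl₀ hd rfl).symm
    have spec3 : ∀ d ∈ H.Y, H.eps (x₀ * σ x₀) d = H.g0 (x₀ * σ x₀) (d ^ 2 ^ (H.S - 1)) := fun d hd =>
      (H.g0_spec hl3 hd rfl).symm
    -- the values on the rotated roots
    obtain ⟨b, hb⟩ : ∃ b, b = H.eps x₀ (σ d₁) := ⟨_, rfl⟩
    have hσd : σ d₁ ∈ H.Y := H.inv σ (hσ ▸ H.rot.1) d₁ hd₁
    have hσσd : σ (σ d₁) ∈ H.Y := H.inv σ (hσ ▸ H.rot.1) _ hσd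
    have hbU : b ∈ H.U := hb ▸ hl₀ _ hσd
    have top2 : (σ (σ d₁)) ^ 2 ^ (H.S - 1) = (d₁ * σ d₁) ^ 2 ^ (H.S - 1) := by
      rw [← map_pow, ← map_pow, ← hv, (show Commute d₁ (σ d₁) from H.comm _ hd₁ _ hσd).mul_pow,
        ← map_pow, ← hv, hσ, H.rot.2.2.2.1 v hvU]
    have hb2 : H.eps x₀ (σ (σ d₁)) = b := by
      rw [spec _ hσσd, top2, ← spec _ (H.Y.mul_mem hd₁ hσd), H.eps_mul_right hd₁ hσd, he₁, one_mul, hb]
    have hb1 : b ≠ 1 := by
      intro hb1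
      refine hx₀ (H.mem_Y_of_eps hC fun d hd => ?_)
      have hall := H.cases_U hvU hv1 (H.top_mem hd)
      rw [spec d hd]
      rcases hall with e | e | e | e <;> rw [e]
      · have := spec 1 H.Y.one_mem
        rw [one_pow, H.eps_one] at this
        exact this.symm
      · rw [hv, ← spec _ hd₁, he₁]
      · rw [hv, map_pow, ← hσ, ← spec _ hσd, ← hb, hb1]
      · rw [hv, map_pow, ← hσ, ← (show Commute d₁ (σ d₁) from H.comm _ hd₁ _ hσd).mul_pow,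
          ← spec _ (H.Y.mul_mem hd₁ hσd), H.eps_mul_right hd₁ hσd, he₁, ← hb, hb1, mul_one]
    have hσσσd : (σ (σ (σ d₁))) ^ 2 ^ (H.S - 1) = v := by
      rw [← map_pow, ← map_pow, ← map_pow, ← hv, hσ, H.σσσ hvU]
    have e1 : H.eps (x₀ * σ x₀) d₁ = σ b := by
      rw [spec3 _ hd₁, ← hv, ← hσσσd, ← spec3 _ (H.inv σ (hσ ▸ H.rot.1) _ hσσd), H.eps_mul_left,
        H.eps_U (hl2 _ (H.inv σ (hσ ▸ H.rot.1) _ hσσd)), one_mul, ← H.eps_map, hb2]
      have : H.eps x₀ (σ (σ (σ d₁))) = 1 := by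
        rw [spec _ (H.inv σ (hσ ▸ H.rot.1) _ hσσd), hσσσd, hv, ← spec _ hd₁, he₁]
      rw [this, mul_one]
    have e2 : H.eps (x₀ * σ x₀) (σ d₁) = b := by
      rw [H.eps_mul_left, H.eps_U (hl2 _ hσd), one_mul, ← H.eps_map, he₁, map_one, one_mul, hb]
    have hσb : σ b ≠ b := hσ ▸ H.rot.2.2.1 b hbU hb1
    have hσb1 : σ b ≠ 1 := fun e => hb1 (σ.injective (e.trans (map_one σ).symm))
    refine ⟨x₀ * σ x₀, fun hY => hσb1 ?_, hl3, fun d hd he => ?_⟩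
    · rw [← e1]
      unfold eps
      rw [H.comm _ hY _ hd₁, mul_inv_cancel_right, mul_inv_cancel]
    · rcases H.cases_U hvU hv1 (H.top_mem hd) with e | e | e | e
      · exact e
      · refine absurd ?_ hσb1
        rw [← e1, spec3 _ hd₁, ← hv, ← e, ← spec3 d hd, he]
      · refine absurd ?_ hb1
        rw [← e2, spec3 _ hσd, ← map_pow, ← hv, hσ, ← e, ← hσ, ← spec3 d hd, he]
      · refine absurd ?_ hσb
        have : H.eps (x₀ * σ x₀) (d₁ * σ d₁) = 1 := by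
          rw [spec3 _ (H.Y.mul_mem hd₁ hσd), (show Commute d₁ (σ d₁) from H.comm _ hd₁ _ hσd).mul_pow,
            ← map_pow, ← hv, hσ, ← e, ← hσ, ← spec3 d hd, he]
        rw [H.eps_mul_right hd₁ hσd, e1, e2] at this
        exact (eq_inv_of_mul_eq_one_left this).trans (inv_eq_of_mul_eq_one_right (H.uu hbU))
  -- the square lies in the squares of `Y`
  have hxx : x * x ∈ H.Y := H.mem_Y_of_eps hC fun d hd => by
    rw [H.eps_mul_left, H.eps_U (hlx d hd), one_mul, H.uu (hlx d hd)]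
  obtain ⟨e, he, hee⟩ := H.exists_sqrt hxx (hinj _ hxx (by unfold eps; group))
  -- an involution
  obtain ⟨f, hf, hff⟩ := H.root _ (hlx e⁻¹ (H.Y.inv_mem he))
  obtain ⟨g, hg, hgg⟩ : ∃ g ∈ H.Y, g ^ 4 = H.eps x e⁻¹ :=
    ⟨f ^ 2 ^ n, H.Y.pow_mem hf _, by
      rw [← pow_mul, ← hff, show (4 : ℕ) = 2 ^ 2 from rfl, ← pow_add, show n + 2 = H.S - 1 by omega]⟩
  obtain ⟨d, hd⟩ : ∃ d, d = e⁻¹ * (g ^ 2)⁻¹ := ⟨_, rfl⟩
  have hdY : d ∈ H.Y := hd ▸ H.Y.mul_mem (H.Y.inv_mem he) (H.Y.inv_mem (H.Y.pow_mem hg _))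
  have hεd : H.eps x d = H.eps x e⁻¹ := by
    rw [hd, H.eps_mul_right (H.Y.inv_mem he) (H.Y.inv_mem (H.Y.pow_mem hg _))]
    have : H.eps x (g⁻¹ * g⁻¹) = 1 := by
      rw [H.eps_mul_right (H.Y.inv_mem hg) (H.Y.inv_mem hg), H.uu (hlx _ (H.Y.inv_mem hg))]
    rw [show (g ^ 2)⁻¹ = g⁻¹ * g⁻¹ by group, this, mul_one]
  obtain ⟨u, hu⟩ : ∃ u, u = d * x := ⟨_, rfl⟩
  have huu : u * u = 1 := by
    have e0 : u * u = d * (H.eps x d * d) * (x * x) := by rw [hu]; unfold eps; group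
    have cm : Commute e⁻¹ (g ^ 2)⁻¹ := H.comm _ (H.Y.inv_mem he) _ (H.Y.inv_mem (H.Y.pow_mem hg _))
    rw [e0, H.comm _ (H.eps_mem hdY) _ hdY, ← mul_assoc d d, ← pow_two d, hεd, ← hgg, hd, cm.mul_pow,
      ← hee]
    group
  have huY : u ∉ H.Y := fun h => hx (by
    have := H.Y.mul_mem (H.Y.inv_mem hdY) h
    rwa [hu, inv_mul_cancel_left] at this)
  have hεu : ∀ a ∈ H.Y, H.eps u a = H.eps x a := fun a ha => by
    have e0 : ∀ b ∈ H.Y, H.eps d b = 1 := fun b hb => by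
      unfold eps; rw [H.comm _ hdY _ hb, mul_inv_cancel_right, mul_inv_cancel]
    rw [hu, H.eps_mul_left, e0 _ (H.eps_mem ha), e0 a ha, one_mul, mul_one]
  refine huY (H.uY (D.no_three H.U H.U_center (fun v hv => H.uu hv) H.rot.2.1.ge huu fun y => ?_))
  obtain ⟨c, hc⟩ : ∃ c, c = y * u * y⁻¹ * u⁻¹ := ⟨_, rfl⟩
  rw [← hc]
  have hcY : c ∈ H.Y := by
    refine hC (mem_centralizer_iff.mpr fun a ha => ?_)
    have h1 : ∀ a ∈ H.Y, y * u * y⁻¹ * a * (y * u * y⁻¹)⁻¹ = u * a * u⁻¹ := fun a ha => by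
      have ha' : y⁻¹ * a * y⁻¹⁻¹ ∈ H.Y := H.normal.conj_mem a ha y⁻¹
      obtain ⟨r, hr, rr⟩ := H.eps_sqrt y⁻¹ ha
      have e2 : H.eps u (y⁻¹ * a * y⁻¹⁻¹) = H.eps x a := by
        rw [show y⁻¹ * a * y⁻¹⁻¹ = H.eps y⁻¹ a * a by unfold eps; group,
          H.eps_mul_right (H.eps_mem ha) ha, ← rr, H.eps_mul_right hr hr, hεu r hr, H.uu (hlx r hr),
          one_mul, hεu a ha]
      calc y * u * y⁻¹ * a * (y * u * y⁻¹)⁻¹
          = y * (H.eps u (y⁻¹ * a * y⁻¹⁻¹) * (y⁻¹ * a * y⁻¹⁻¹)) * y⁻¹ := by unfold eps; group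
        _ = y * H.eps x a * y⁻¹ * a := by rw [e2]; group
        _ = H.eps u a * a := by rw [H.ucomm (hlx a ha) y, mul_inv_cancel_right, hεu a ha]
        _ = u * a * u⁻¹ := by unfold eps; group
    have h2 := h1 _ (H.normal.conj_mem a ha u⁻¹)
    have h3 : u * (u⁻¹ * a * u⁻¹⁻¹) * u⁻¹ = a := by group
    rw [h3] at h2
    calc a * c = (y * u * y⁻¹ * (u⁻¹ * a * u⁻¹⁻¹) * (y * u * y⁻¹)⁻¹) * c := by rw [h2]
      _ = c * a := by rw [hc]; group
  have h2 : c * c * H.eps u c = 1 := by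
    have h0 : (c * u) * (c * u) = 1 := by
      rw [hc]
      calc y * u * y⁻¹ * u⁻¹ * u * (y * u * y⁻¹ * u⁻¹ * u) = y * (u * u) * y⁻¹ := by group
        _ = 1 := by rw [huu]; group
    calc c * c * H.eps u c = c * (H.eps u c * c) := by rw [H.comm _ (H.eps_mem hcY) _ hcY, mul_assoc]
      _ = c * u * (c * u) * (u * u)⁻¹ := by unfold eps; group
      _ = 1 := by rw [h0, huu, inv_one, mul_one]
  have hεc : H.eps u c ∈ H.U := (hεu c hcY).symm ▸ hlx c hcY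
  have hccU : c * c ∈ H.U := by
    rw [eq_inv_of_mul_eq_one_left h2]; exact H.U.inv_mem hεc
  obtain ⟨r, hr, rr⟩ := H.exists_root 2 (by omega) c hcY (by
    rw [show (2 : ℕ) ^ 2 = 2 * 2 from rfl, pow_mul, pow_two, pow_two]; exact H.uu hccU)
  have hεc1 : H.eps u c = 1 := by
    rw [← rr, H.eps_pow hr, show H.S - 2 = n + 1 by omega, pow_succ', pow_mul, pow_two,
      H.uu ((hεu r hr).symm ▸ hlx r hr), one_pow]
  rw [hεc1, mul_one] at h2
  exact (H.memU c).mpr ⟨hcY, h2⟩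

include hC in
theorem squares_central (x : X) : x * x ∈ center X := by
  by_cases hall : ∀ x : X, x ∈ H.Y
  · exact mem_center_iff.mpr fun g => H.comm _ (hall g) _ (hall _)
  push Not at hall
  rcases Nat.lt_or_ge H.S 3 with hS | hS
  · rcases (show H.S = 1 ∨ H.S = 2 by have := H.S_pos; omega) with h1 | h2
    · obtain ⟨y, hy⟩ := hall
      refine absurd (hC (mem_centralizer_iff.mpr fun d hd => ?_)) hy
      have hdU : d ∈ H.U := (H.memU d).mpr ⟨hd, by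
        have := H.exp d hd
        rwa [h1, pow_one, pow_two] at this⟩
      exact (H.ucomm hdU y).symm
    · exact H.U_center (H.squares_two hC h2 x)
  · exact (H.false_of_three_le hC hS hall).elim

end Homo

end Cfsg.Agent.OddAutTwo
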