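import Mathlib
import Cfsg.Agent.Fusion.PGroup
import Cfsg.Agent.Core.Frattini

/-!
# Two-groups with a generating family of odd order automorphisms

Elementary tools for a `2`-group `X` with `X = [X, A]`, `A` of odd order, in which every normal
subgroup of exponent two has at most four elements.
-/

set_option autoImplicit false

namespace Cfsg.Agent.OddAutTwo

open Subgroup
open scoped commutatorElement

variable {X : Type*} [Group X]

/-- The hypotheses. -/
structure Data (X : Type*) [Group X] where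
  A : Subgroup (MulAut X)
  isTwo : IsPGroup 2 X
  odd : Odd (Nat.card A)
  gen : closure {g : X | ∃ φ ∈ A, ∃ x : X, g = x⁻¹ * φ x} = ⊤
  small : ∀ E : Subgroup X, E.Normal → (∀ a ∈ E, a * a = 1) → Nat.card E ≤ 4

theorem comm_of_exp_two {U : Subgroup X} (hU : ∀ v ∈ U, v * v = 1) {a c : X} (ha : a ∈ U) (hc : c ∈ U) :
    a * c = c * a := by
  have h := inv_eq_of_mul_eq_one_right (hU _ (U.mul_mem ha hc))
  rw [mul_inv_rev, inv_eq_of_mul_eq_one_right (hU a ha), inv_eq_of_mul_eq_one_right (hU c hc)] at h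
  exact h.symm

/-- A group of exponent two with at most four elements, seen from two of its elements. -/
theorem eq_of_four [Finite X] {U : Subgroup X} (hU : ∀ v ∈ U, v * v = 1) (h4 : Nat.card U ≤ 4)
    {a c : X} (ha : a ∈ U) (hc : c ∈ U) (ha1 : a ≠ 1) (hc1 : c ≠ 1) (hac : a ≠ c) :
    Nat.card U = 4 ∧ ∀ v ∈ U, v = 1 ∨ v = a ∨ v = c ∨ v = a * c := by
  classical
  have h1 : a * c ≠ 1 := fun h => hac (by
    rw [← inv_eq_of_mul_eq_one_right h, inv_eq_of_mul_eq_one_right (hU a ha)])
  have h2 : a * c ≠ a := fun h => hc1 (mul_left_cancel (h.trans (mul_one a).symm))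
  have h3 : a * c ≠ c := fun h => ha1 (mul_right_cancel (h.trans (one_mul c).symm))
  have : Fintype U := Fintype.ofFinite _
  obtain ⟨T, hT⟩ : ∃ T : Finset U, T = {1, ⟨a, ha⟩, ⟨c, hc⟩, ⟨a * c, U.mul_mem ha hc⟩} := ⟨_, rfl⟩
  have hTc : T.card = 4 := by
    rw [hT]; simp [Subtype.ext_iff, ha1.symm, hc1.symm, hac, h1.symm, h2.symm, h3.symm]
  have hTu : T = Finset.univ := Finset.eq_univ_of_card T (le_antisymm (Finset.card_le_univ T)
    (by rw [hTc, ← Nat.card_eq_fintype_card]; exact h4))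
  refine ⟨by rw [Nat.card_eq_fintype_card, ← Finset.card_univ, ← hTu, hTc], fun v hv => ?_⟩
  have := Finset.mem_univ (⟨v, hv⟩ : U)
  rw [← hTu, hT] at this
  simpa [Subtype.ext_iff] using this

theorem exists_ne_of_card_four [Finite X] {U : Subgroup X} (h4 : Nat.card U = 4) :
    ∃ a ∈ U, ∃ c ∈ U, a ≠ 1 ∧ c ≠ 1 ∧ a ≠ c := by
  classical
  have : Fintype U := Fintype.ofFinite _
  have h : 1 < ((Finset.univ : Finset U).erase 1).card := by
    rw [Finset.card_erase_of_mem (Finset.mem_univ _), Finset.card_univ, ← Nat.card_eq_fintype_card, h4]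
    norm_num
  obtain ⟨a, ha, c, hc, hne⟩ := Finset.one_lt_card.mp h
  exact ⟨a, a.2, c, c.2, fun e => (Finset.mem_erase.mp ha).1 (Subtype.ext e),
    fun e => (Finset.mem_erase.mp hc).1 (Subtype.ext e), fun e => hne (Subtype.ext e)⟩

namespace Data

variable (D : Data X)

/-- Invariance under the automorphisms. -/
def Inv (Y : Subgroup X) : Prop := ∀ φ ∈ D.A, ∀ y ∈ Y, φ y ∈ Y

theorem inv_center : D.Inv (center X) := fun φ _ y hy => mem_center_iff.mpr fun g => by
  obtain ⟨g, rfl⟩ := φ.surjective g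
  rw [← map_mul, ← map_mul, mem_center_iff.mp hy g]

theorem inv_of_char (Y : Subgroup X) (hY : Y.Characteristic) : D.Inv Y := fun φ _ y hy =>
  (characteristic_iff_le_comap.mp hY φ) hy

/-- An invariant homomorphism to an abelian group is trivial. -/
theorem hom_trivial {M : Type*} [Group M] (hM : ∀ a c : M, a * c = c * a) (f : X →* M)
    (h : ∀ φ ∈ D.A, ∀ x, f (φ x) = f x) (x : X) : f x = 1 := by
  have hle : closure {g : X | ∃ φ ∈ D.A, ∃ x : X, g = x⁻¹ * φ x} ≤ f.ker := by
    rw [closure_le]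
    rintro _ ⟨φ, hφ, y, rfl⟩
    rw [SetLike.mem_coe, MonoidHom.mem_ker, map_mul, h φ hφ, map_inv, inv_mul_cancel]
  exact MonoidHom.mem_ker.mp (hle (D.gen.symm ▸ mem_top x))

variable [Finite X]

theorem eq_of_fix_sq {φ : MulAut X} (hφ : φ ∈ D.A) {v : X} (h : φ (φ v) = v) : φ v = v := by
  obtain ⟨m, hm⟩ := D.odd
  have h1 : φ ^ (2 * m + 1) = 1 := by
    rw [← hm]
    exact congrArg Subtype.val (pow_card_eq_one' (G := D.A) (x := ⟨φ, hφ⟩))
  have h2 : ∀ k, (φ ^ (2 * k)) v = v := by
    intro k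
    induction k with
    | zero => simp
    | succ k ih => rw [show 2 * (k + 1) = 2 * k + 1 + 1 by ring, pow_succ, pow_succ, MulAut.mul_apply,
        MulAut.mul_apply, h, ih]
  have h3 : φ ((φ ^ (2 * m)) v) = v := by
    rw [← MulAut.mul_apply, ← pow_succ', h1]; rfl
  rwa [h2] at h3

/-- An element fixed modulo an invariant subgroup with abelian quotient lies in it. -/
theorem mem_of_fixed (N : Subgroup X) [N.Normal] (hc : commutator X ≤ N) (hN : D.Inv N) {x : X}
    (hx : ∀ φ ∈ D.A, x⁻¹ * φ x ∈ N) : x ∈ N := by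
  classical
  have comm : ∀ a c : X ⧸ N, a * c = c * a := by
    intro a c
    obtain ⟨a, rfl⟩ := QuotientGroup.mk'_surjective N a
    obtain ⟨c, rfl⟩ := QuotientGroup.mk'_surjective N c
    rw [← map_mul, ← map_mul, QuotientGroup.mk'_eq_mk']
    refine ⟨⁅c⁻¹, a⁻¹⁆, hc ?_, by rw [commutatorElement_def]; group⟩
    rw [_root_.commutator_def]
    exact commutator_mem_commutator (mem_top _) (mem_top _)
  letI : CommGroup (X ⧸ N) := { (inferInstance : Group (X ⧸ N)) with mul_comm := comm }
  have : Fintype D.A := Fintype.ofFinite _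
  let f : X →* X ⧸ N :=
    { toFun := fun y => ∏ φ : D.A, QuotientGroup.mk' N ((φ : MulAut X) y)
      map_one' := by simp
      map_mul' := fun a c => by simp [Finset.prod_mul_distrib] }
  have hinv : ∀ ψ ∈ D.A, ∀ y, f (ψ y) = f y := by
    intro ψ hψ y
    show ∏ φ : D.A, QuotientGroup.mk' N ((φ : MulAut X) (ψ y)) = _
    exact Fintype.prod_equiv (Equiv.mulRight (⟨ψ, hψ⟩ : D.A)) _ _ fun φ => rfl
  have hfx : QuotientGroup.mk' N x ^ Nat.card D.A = 1 := by
    have h1 := D.hom_trivial comm f hinv x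
    have h2 : f x = ∏ _φ : D.A, QuotientGroup.mk' N x := Finset.prod_congr rfl fun φ _ => by
      rw [eq_comm, QuotientGroup.mk'_eq_mk']
      exact ⟨x⁻¹ * (φ : MulAut X) x, hx φ φ.2, by rw [mul_inv_cancel_left]⟩
    rw [h2, Finset.prod_const, Finset.card_univ, ← Nat.card_eq_fintype_card] at h1
    exact h1
  obtain ⟨k, hk⟩ := D.isTwo x
  have h2k : QuotientGroup.mk' N x ^ 2 ^ k = 1 := by rw [← map_pow, hk, map_one]
  have hd := Nat.eq_one_of_dvd_coprimes
    ((Nat.coprime_two_left.mpr D.odd).pow_left k) (orderOf_dvd_of_pow_eq_one h2k)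
    (orderOf_dvd_of_pow_eq_one hfx)
  rw [orderOf_eq_one_iff, QuotientGroup.mk'_apply, QuotientGroup.eq_one_iff] at hd
  exact hd

/-- A normal subgroup fixed by every automorphism is central. -/
theorem fixed_central (Y : Subgroup X) [Y.Normal] (hfix : ∀ φ ∈ D.A, ∀ y ∈ Y, φ y = y) :
    Y ≤ center X := by
  have hle : closure {g : X | ∃ φ ∈ D.A, ∃ x : X, g = x⁻¹ * φ x} ≤ centralizer (Y : Set X) := by
    rw [closure_le]
    rintro _ ⟨φ, hφ, x, rfl⟩
    rw [SetLike.mem_coe, mem_centralizer_iff]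
    intro y hy
    have h1 := hfix φ hφ _ (Subgroup.Normal.conj_mem inferInstance y hy x : x * y * x⁻¹ ∈ Y)
    rw [map_mul, map_mul, map_inv, hfix φ hφ y hy] at h1
    calc y * (x⁻¹ * φ x) = x⁻¹ * (x * y * x⁻¹) * φ x := by group
      _ = x⁻¹ * (φ x * y * (φ x)⁻¹) * φ x := by rw [h1]
      _ = x⁻¹ * φ x * y := by group
  intro y hy
  rw [mem_center_iff]
  intro g
  exact (mem_centralizer_iff.mp (hle (D.gen.symm ▸ mem_top g)) y hy).symm

/-- A fixed point free action of an automorphism on a group of exponent two and order four. -/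
def Rot (σ : MulAut X) (U : Subgroup X) : Prop :=
  σ ∈ D.A ∧ Nat.card U = 4 ∧ (∀ v ∈ U, v ≠ 1 → σ v ≠ v) ∧ (∀ v ∈ U, σ (σ v) = v * σ v) ∧
    ∀ ψ ∈ D.A, (∀ v ∈ U, ψ v = v) ∨ (∀ v ∈ U, ψ v = σ v) ∨ ∀ v ∈ U, ψ v = σ (σ v)

theorem exists_rot (U : Subgroup X) (hU : ∀ v ∈ U, v * v = 1) (h4 : Nat.card U ≤ 4) (hInv : D.Inv U)
    (hmove : ∃ φ ∈ D.A, ∃ u ∈ U, φ u ≠ u) : ∃ σ, D.Rot σ U := by
  obtain ⟨σ, hσ, u, hu, hne⟩ := hmove
  have hu' := hInv σ hσ u hu
  have hu1 : u ≠ 1 := fun h => hne (by rw [h, map_one])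
  have hσu1 : σ u ≠ 1 := fun h => hu1 (σ.injective (h.trans (map_one σ).symm))
  obtain ⟨hc, hall⟩ := eq_of_four hU h4 hu hu' hu1 hσu1 (Ne.symm hne)
  have h2 : σ (σ u) = u * σ u := by
    rcases hall _ (hInv σ hσ _ hu') with h | h | h | h
    · exact absurd (σ.injective (h.trans (map_one σ).symm)) hσu1
    · exact absurd (D.eq_of_fix_sq hσ h) hne
    · exact absurd (σ.injective h) hne
    · exact h
  have hcu := comm_of_exp_two hU hu hu'
  have h3 : σ (u * σ u) = u := by
    rw [map_mul, h2, hcu, ← mul_assoc, hU _ hu', one_mul]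
  refine ⟨σ, hσ, hc, fun v hv hv1 => ?_, fun v hv => ?_, fun ψ hψ => ?_⟩
  · rcases hall v hv with rfl | rfl | rfl | rfl
    · exact absurd rfl hv1
    · exact hne
    · exact fun h => hne (σ.injective h)
    · rw [h3]
      exact fun h => hσu1 (mul_left_cancel (a := u) (by rw [mul_one]; exact h.symm))
  · rcases hall v hv with rfl | rfl | rfl | rfl
    · simp
    · exact h2
    · rw [h2, h3, hcu, ← mul_assoc, hU _ hu', one_mul]
    · rw [h3, mul_assoc, comm_of_exp_two hU hu' hu, ← mul_assoc, hU u hu, one_mul]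
  · have key : ∀ χ ∈ D.A, χ u = u → ∀ v ∈ U, χ v = v := by
      intro χ hχ hfix v hv
      have hσu : χ (σ u) = σ u := by
        rcases hall _ (hInv χ hχ _ hu') with h | h | h | h
        · exact absurd (χ.injective (h.trans (map_one χ).symm)) hσu1
        · exact absurd (χ.injective (h.trans hfix.symm)) hne
        · exact h
        · refine D.eq_of_fix_sq hχ ?_
          rw [h, map_mul, hfix, h, ← mul_assoc, hU u hu, one_mul]
      rcases hall v hv with rfl | rfl | rfl | rfl
      · exact map_one χ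
      · exact hfix
      · exact hσu
      · rw [map_mul, hfix, hσu]
    rcases hall _ (hInv ψ hψ u hu) with h | h | h | h
    · exact absurd (ψ.injective (h.trans (map_one ψ).symm)) hu1
    · exact Or.inl (key ψ hψ h)
    · refine Or.inr (Or.inl fun v hv => ?_)
      have := key (σ⁻¹ * ψ) (D.A.mul_mem (D.A.inv_mem hσ) hψ)
        (by rw [MulAut.mul_apply, h, MulAut.inv_apply, MulEquiv.symm_apply_apply]) v hv
      rw [MulAut.mul_apply, MulAut.inv_apply, MulEquiv.symm_apply_eq] at this
      exact this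
    · refine Or.inr (Or.inr fun v hv => ?_)
      have := key (σ⁻¹ * (σ⁻¹ * ψ)) (D.A.mul_mem (D.A.inv_mem hσ) (D.A.mul_mem (D.A.inv_mem hσ) hψ))
        (by rw [MulAut.mul_apply, MulAut.mul_apply, h, ← h2]; simp) v hv
      simp only [MulAut.mul_apply, MulAut.inv_apply, MulEquiv.symm_apply_eq] at this
      exact this

/-- Small invariant normal subgroups of exponent two are central. -/
theorem exp_two_central (U : Subgroup X) [U.Normal] (hU : ∀ v ∈ U, v * v = 1) (hInv : D.Inv U) :
    U ≤ center X := by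
  by_cases hmove : ∃ φ ∈ D.A, ∃ u ∈ U, φ u ≠ u
  · obtain ⟨σ, hσ, hc, hfpf, -, -⟩ := D.exists_rot U hU (D.small U inferInstance hU) hInv hmove
    have hne : U ≠ ⊥ := fun h => by rw [h] at hc; simp at hc
    have : Fact (Nat.Prime 2) := ⟨Nat.prime_two⟩
    obtain ⟨v, hv, hv1⟩ := (Subgroup.bot_or_exists_ne_one _).resolve_left
      (Fusion.pGroup_inf_center_ne_bot D.isTwo U hne)
    obtain ⟨-, hall⟩ := eq_of_four hU hc.le hv.1 (hInv σ hσ v hv.1) hv1
      (fun h => hv1 (σ.injective (h.trans (map_one σ).symm))) (Ne.symm (hfpf v hv.1 hv1))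
    intro w hw
    have hσv : σ v ∈ center X := D.inv_center σ hσ v hv.2
    rcases hall w hw with rfl | rfl | rfl | rfl
    · exact (center X).one_mem
    · exact hv.2
    · exact hσv
    · exact (center X).mul_mem hv.2 hσv
  · push Not at hmove
    exact D.fixed_central U hmove

include D in
/-- No involution outside a central four-group has all its commutators there. -/
theorem no_three (U : Subgroup X) (hUc : U ≤ center X) (hU : ∀ v ∈ U, v * v = 1) (h4 : 4 ≤ Nat.card U)
    {u : X} (hu : u * u = 1) (hcom : ∀ y, y * u * y⁻¹ * u⁻¹ ∈ U) : u ∈ U := by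
  by_contra hne
  have hc : ∀ v ∈ U, ∀ g : X, g * v = v * g := fun v hv g => mem_center_iff.mp (hUc hv) g
  have ui : u⁻¹ = u := inv_eq_of_mul_eq_one_right hu
  let W : Subgroup X :=
    { carrier := {g | g ∈ U ∨ g * u ∈ U}
      mul_mem' := fun {g h} hg hh => by
        rcases hg with hg | hg <;> rcases hh with hh | hh
        · exact Or.inl (U.mul_mem hg hh)
        · exact Or.inr (by rw [mul_assoc]; exact U.mul_mem hg hh)
        · refine Or.inr ?_
          rw [show g * h * u = g * u * (u⁻¹ * (h * u)) by group, ← hc h hh u, inv_mul_cancel_left]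
          exact U.mul_mem hg hh
        · refine Or.inl ?_
          have e : g * h = (g * u) * (u⁻¹ * ((h * u) * u⁻¹)) := by group
          rw [e, ← mul_assoc u⁻¹, hc _ hh u⁻¹, mul_assoc (h * u), ui, hu, mul_one]
          exact U.mul_mem hg hh
      one_mem' := Or.inl U.one_mem
      inv_mem' := fun {g} hg => by
        rcases hg with hg | hg
        · exact Or.inl (U.inv_mem hg)
        · refine Or.inr ?_
          have := U.inv_mem hg
          rw [mul_inv_rev] at this
          have e : g⁻¹ * u = u * (u⁻¹ * g⁻¹) * u := by group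
          rw [e, hc _ this u, mul_assoc, hu, mul_one]
          exact this }
  have hn : W.Normal := ⟨fun g hg y => by
    rcases hg with hg | hg
    · exact Or.inl (by rw [hc g hg y, mul_inv_cancel_right]; exact hg)
    · refine Or.inr ?_
      have e : y * g * y⁻¹ * u = (y * (g * u) * y⁻¹) * (y * u⁻¹ * y⁻¹ * u) := by group
      rw [e, hc _ hg y, mul_inv_cancel_right]
      refine U.mul_mem hg ?_
      have := hcom y
      rwa [ui] at this ⊢⟩
  have hexp : ∀ g ∈ W, g * g = 1 := by
    intro g hg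
    rcases hg with hg | hg
    · exact hU g hg
    · calc g * g = (g * u) * u⁻¹ * ((g * u) * u⁻¹) := by group
        _ = (g * u) * ((g * u) * u⁻¹) * u⁻¹ := by rw [mul_assoc (g * u) u⁻¹, ← mul_assoc u⁻¹, hc _ hg u⁻¹]; group
        _ = (g * u) * (g * u) * (u * u) := by rw [ui]; group
        _ = 1 := by rw [hU _ hg, hu, one_mul]
  have hle : U ≤ W := fun g hg => Or.inl hg
  have hlt : U < W := lt_of_le_of_ne hle fun e => hne (by rw [e]; exact Or.inr (by rw [hu]; exact U.one_mem))
  have h1 := D.small W hn hexp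
  exact hlt.ne (Subgroup.eq_of_le_of_card_ge hle (h1.trans h4))

end Data

end Cfsg.Agent.OddAutTwo
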